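import Cfsg.Agent.Base

/-!
# Finite facts about the alternating group of degree five

All checked by evaluation; they feed the characterisation of the first Janko group by the
centraliser `2 × A₅` of an involution.
-/

set_option autoImplicit false

namespace CL.J1C

/-- The alternating group of degree five. -/
abbrev A5 := alternatingGroup (Fin 5)

set_option maxRecDepth 100000 in
theorem a5_pow_cases : ∀ g : A5, g ^ 2 = 1 ∨ g ^ 3 = 1 ∨ g ^ 5 = 1 := by decide +kernel

set_option synthInstance.maxSize 2000 in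
set_option maxRecDepth 100000 in
theorem a5_cent_odd : ∀ x : A5, x * x ≠ 1 → ∀ g : A5, g * x = x * g →
    g = 1 ∨ g = x ∨ g = x ^ 2 ∨ g = x ^ 3 ∨ g = x ^ 4 := by decide +kernel

set_option synthInstance.maxSize 2000 in
set_option maxRecDepth 100000 in
theorem a5_exists_inv : ∀ x : A5, ∃ s : A5, s * s = 1 ∧ s * x * s⁻¹ = x⁻¹ := by decide +kernel

/-- a fixed involution -/
def a5s : A5 := ⟨Equiv.swap 0 1 * Equiv.swap 2 3,
  Equiv.Perm.mem_alternatingGroup.2 (by decide)⟩
/-- a fixed element of order three -/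
def a5x : A5 := ⟨Equiv.swap 0 1 * Equiv.swap 1 2,
  Equiv.Perm.mem_alternatingGroup.2 (by decide)⟩
/-- a fixed element of order five -/
def a5y : A5 := ⟨Equiv.swap 0 1 * Equiv.swap 1 2 * Equiv.swap 2 3 * Equiv.swap 3 4,
  Equiv.Perm.mem_alternatingGroup.2 (by decide)⟩

set_option synthInstance.maxSize 2000 in
set_option maxRecDepth 100000 in
theorem a5_conj_s : ∀ a : A5, a * a = 1 → a ≠ 1 → ∃ g : A5, g * a * g⁻¹ = a5s := by
  decide +kernel

set_option synthInstance.maxSize 2000 in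
set_option maxRecDepth 100000 in
theorem a5_conj_x : ∀ a : A5, a ^ 3 = 1 → a ≠ 1 → ∃ g : A5, g * a * g⁻¹ = a5x := by
  decide +kernel

set_option synthInstance.maxSize 2000 in
set_option maxRecDepth 100000 in
theorem a5_conj_y : ∀ a : A5, a ^ 5 = 1 → a ≠ 1 →
    ∃ g : A5, g * a * g⁻¹ = a5y ∨ g * a ^ 2 * g⁻¹ = a5y := by
  decide +kernel

theorem a5s_mul_self : a5s * a5s = 1 := by decide
theorem a5s_ne_one : a5s ≠ 1 := by decide
theorem a5x_pow : a5x ^ 3 = 1 := by decide
theorem a5x_ne_one : a5x ≠ 1 := by decide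
theorem a5y_pow : a5y ^ 5 = 1 := by decide
theorem a5y_ne_one : a5y ≠ 1 := by decide

set_option synthInstance.maxSize 2000 in
set_option maxRecDepth 100000 in
theorem a5_sq_of_comm : ∀ s : A5, s * s = 1 → s ≠ 1 → ∀ g : A5, g * s = s * g → g * g = 1 := by
  decide +kernel

set_option synthInstance.maxSize 2000 in
set_option maxRecDepth 100000 in
/-- the three involutions of a four-group are permuted cyclically -/
theorem a5_cyc : ∀ e : A5, e * e = 1 → e ≠ 1 → ∃ w : A5, w * e * w⁻¹ ≠ e ∧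
    w * e * w⁻¹ * e = e * (w * e * w⁻¹) ∧ w * (w * e * w⁻¹) * w⁻¹ = e * (w * e * w⁻¹) ∧
    w * (e * (w * e * w⁻¹)) * w⁻¹ = e := by
  decide +kernel

set_option synthInstance.maxSize 2000 in
set_option maxRecDepth 100000 in
theorem a5_cent_inv : ∀ e : A5, e * e = 1 → e ≠ 1 → ∀ c : A5, c * e = e * c → c ≠ 1 → c ≠ e →
    ∀ g : A5, g * e = e * g → g = 1 ∨ g = e ∨ g = c ∨ g = e * c := by
  decide +kernel

set_option synthInstance.maxSize 2000 in
set_option maxRecDepth 100000 in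
theorem a5_exists_d : ∀ e : A5, e * e = 1 → e ≠ 1 → ∀ c : A5, c * e = e * c → c ≠ 1 → c ≠ e →
    ∃ d : A5, d * d = 1 ∧ d ≠ 1 ∧ d ≠ c ∧ d ≠ e ∧ (c * d) ^ 3 = 1 ∧ (d * e) ^ 5 = 1 ∧
      (c * d * e) ^ 5 = 1 := by
  decide +kernel

set_option synthInstance.maxSize 2000 in
set_option maxRecDepth 100000 in
theorem a5_abc : ∀ a : A5, a * a = 1 → a ≠ 1 → ∀ c : A5, c * a = a * c → c ≠ 1 → c ≠ a →
    ∀ b : A5, b * b = 1 → b ≠ a → (a * b) ^ 3 = 1 →
      (b * c) ^ 5 = 1 ∧ b ≠ c ∧ (a * b * c) ^ 5 = 1 := by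
  decide +kernel

set_option synthInstance.maxSize 2000 in
set_option maxRecDepth 100000 in
theorem a5_sq_mul_sq : ∀ p : A5, ∃ x : A5, (x ^ 2 * p) ^ 3 = 1 := by
  decide +kernel

theorem a5_card : Nat.card A5 = 60 := by
  have h := two_mul_nat_card_alternatingGroup (α := Fin 5)
  rw [Nat.card_perm, Nat.card_fin] at h
  have : Nat.factorial 5 = 120 := by decide
  show Nat.card (alternatingGroup (Fin 5)) = 60
  omega

end CL.J1C
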