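import Cfsg.Agent.Base
import Cfsg.Agent.J1.A5

/-!
# Involutions with centraliser `2 × A₅`

`Loc u φ` says that `φ` is an isomorphism of `P = 2 × A₅` onto the centraliser of the involution
`u`.  `InF u v` says that `v` lies in the `A₅` factor of the centraliser of `u`.  The lemmas
transport the finite facts of `J1/A5` into the ambient group.
-/

set_option autoImplicit false

namespace CL.J1C

/-- The group of order two. -/
abbrev Z2 := Multiplicative (ZMod 2)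

/-- The model `2 × A₅` of the centraliser. -/
abbrev P := Z2 × A5

/-- The central involution of the model. -/
def z0 : P := (Multiplicative.ofAdd 1, 1)

theorem z2_mul_self : ∀ a : Z2, a * a = 1 := by decide
theorem z2_cases : ∀ a : Z2, a = 1 ∨ a = Multiplicative.ofAdd 1 := by decide
theorem z2_eq_of_iff : ∀ a b : Z2, (a = 1 ↔ b = 1) → a = b := by decide
theorem z2_mul_eq_one : ∀ a b : Z2, a * b = 1 ↔ (a = 1 ↔ b = 1) := by decide
theorem z2_pow_five : ∀ a : Z2, a * a * a * (a * a * a) * (a * a * a) * (a * a * a) * (a * a * a) = a := by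
  decide
theorem z2_ne : (Multiplicative.ofAdd 1 : Z2) ≠ 1 := by decide

theorem z2_pow_even (a : Z2) (n : ℕ) : a ^ (2 * n) = 1 := by
  rw [pow_mul, pow_two, z2_mul_self, one_pow]

theorem z2_pow_odd (a : Z2) {n : ℕ} (h : Odd n) : a ^ n = a := by
  obtain ⟨k, rfl⟩ := h
  rw [pow_succ, z2_pow_even, one_mul]

theorem p_card : Nat.card P = 120 := by
  rw [Nat.card_prod, a5_card]; simp [Z2]

theorem z0_comm (p : P) : p * z0 = z0 * p := by
  ext1
  · exact mul_comm _ _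
  · simp [z0]

theorem p_comm_iff {p q : P} : p * q = q * p ↔ p.2 * q.2 = q.2 * p.2 :=
  ⟨fun h => congrArg Prod.snd h, fun h => Prod.ext (mul_comm _ _) h⟩

theorem p_snd_ne {p : P} (h1 : p ≠ 1) (h2 : p ≠ z0) : p.2 ≠ 1 := by
  intro h
  rcases z2_cases p.1 with h' | h'
  · exact h1 (Prod.ext h' h)
  · exact h2 (Prod.ext h' h)

theorem p_eq_z0_of_central {p : P} (h1 : p ≠ 1) (h : ∀ q, q * p = p * q) : p = z0 := by
  by_contra h2
  have h3 := p_snd_ne h1 h2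
  have hs : a5s * p.2 = p.2 * a5s := p_comm_iff.1 (h (1, a5s))
  have hx : p.2 * a5x = a5x * p.2 := (p_comm_iff.1 (h (1, a5x))).symm
  have h4 := a5_sq_of_comm a5s a5s_mul_self a5s_ne_one p.2 hs.symm
  have h5 := a5_sq_of_comm p.2 h4 h3 a5x hx.symm
  exact absurd h5 (by decide)

variable {G : Type*} [Group G]

/-- `u` is an involution. -/
def Inv (u : G) : Prop := u * u = 1 ∧ u ≠ 1

theorem Inv.inv_eq {u : G} (h : Inv u) : u⁻¹ = u := inv_eq_of_mul_eq_one_right h.1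

theorem Inv.conj {u : G} (h : Inv u) (g : G) : Inv (g * u * g⁻¹) := by
  refine ⟨?_, fun h' => h.2 ?_⟩
  · calc g * u * g⁻¹ * (g * u * g⁻¹) = g * (u * u) * g⁻¹ := by group
      _ = 1 := by rw [h.1]; group
  · calc u = g⁻¹ * (g * u * g⁻¹) * g := by group
      _ = 1 := by rw [h']; group

theorem inv_iff_orderOf {u : G} : Inv u ↔ orderOf u = 2 := by
  have : Fact (Nat.Prime 2) := ⟨Nat.prime_two⟩
  rw [orderOf_eq_prime_iff, pow_two]; rfl

theorem Inv.mul {u v : G} (hu : Inv u) (hv : Inv v) (hc : Commute u v) (hne : u ≠ v) :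
    Inv (u * v) := by
  refine ⟨?_, fun h => hne ?_⟩
  · calc u * v * (u * v) = u * (v * u) * v := by group
      _ = (u * u) * (v * v) := by rw [← hc.eq]; group
      _ = 1 := by rw [hu.1, hv.1, one_mul]
  · rw [← hv.inv_eq]; exact eq_inv_of_mul_eq_one_left h

theorem commute_conj {a b : G} (h : Commute a b) (g : G) :
    Commute (g * a * g⁻¹) (g * b * g⁻¹) := by
  show _ = _
  calc g * a * g⁻¹ * (g * b * g⁻¹) = g * (a * b) * g⁻¹ := by group
    _ = g * (b * a) * g⁻¹ := by rw [h.eq]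
    _ = _ := by group

theorem conj_eq_of_commute {a b : G} (h : Commute a b) : a * b * a⁻¹ = b := by
  rw [h.eq, mul_inv_cancel_right]

theorem commute_of_conj_eq {a b : G} (h : a * b * a⁻¹ = b) : Commute a b :=
  mul_inv_eq_iff_eq_mul.1 h

/-- `v` lies in the `A₅` factor of the centraliser of `u`. -/
def InF (u v : G) : Prop := ∃ x y : G, Commute x u ∧ Commute y u ∧ v = x ^ 2 * y ^ 2

theorem InF.conj {u v : G} (h : InF u v) (g : G) : InF (g * u * g⁻¹) (g * v * g⁻¹) := by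
  obtain ⟨x, y, hx, hy, rfl⟩ := h
  refine ⟨g * x * g⁻¹, g * y * g⁻¹, commute_conj hx g, commute_conj hy g, ?_⟩
  rw [conj_pow, conj_pow]; group

theorem inF_conj_iff {u v : G} (g : G) : InF (g * u * g⁻¹) (g * v * g⁻¹) ↔ InF u v := by
  refine ⟨fun h => ?_, fun h => h.conj g⟩
  have := h.conj g⁻¹
  simpa [mul_assoc] using this

theorem inF_conj_iff_of_commute {u v g : G} (h : Commute g u) :
    InF u (g * v * g⁻¹) ↔ InF u v := by
  conv_lhs => rw [← conj_eq_of_commute h]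
  exact inF_conj_iff g

/-- `φ` identifies `2 × A₅` with the centraliser of `u`. -/
structure Loc (u : G) (φ : P →* G) : Prop where
  inj : Function.Injective φ
  z : φ z0 = u
  surj : ∀ g : G, Commute g u → ∃ p, φ p = g

namespace Loc

variable {u : G} {φ : P →* G}

theorem comm (h : Loc u φ) (p : P) : Commute (φ p) u := by
  show _ = _
  rw [← h.z, ← map_mul, ← map_mul, z0_comm]

theorem inv (h : Loc u φ) : Inv u := by
  rw [← h.z]
  refine ⟨?_, fun h' => ?_⟩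
  · rw [← map_mul, show z0 * z0 = 1 by decide, map_one]
  · exact absurd (h.inj (h'.trans (map_one φ).symm)) (by decide)

theorem eq_one_iff (h : Loc u φ) {p : P} : φ p = 1 ↔ p = 1 := by
  rw [← map_one φ, h.inj.eq_iff]

theorem eq_u_iff (h : Loc u φ) {p : P} : φ p = u ↔ p = z0 := by
  conv_lhs => rw [← h.z]
  exact h.inj.eq_iff

theorem commute_iff (h : Loc u φ) {p q : P} : Commute (φ p) (φ q) ↔ p.2 * q.2 = q.2 * p.2 := by
  rw [← p_comm_iff, ← h.inj.eq_iff, map_mul, map_mul]; rfl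

theorem conj (h : Loc u φ) (g : G) :
    Loc (g * u * g⁻¹) ((MulAut.conj g).toMonoidHom.comp φ) where
  inj := (MulAut.conj g).injective.comp h.inj
  z := by simp [h.z]
  surj := fun x hx => by
    have := commute_conj hx g⁻¹
    simp only [inv_inv, mul_assoc, inv_mul_cancel_left, inv_mul_cancel, mul_one] at this
    obtain ⟨p, hp⟩ := h.surj _ this
    exact ⟨p, by simp [hp, mul_assoc]⟩

theorem inF_iff (h : Loc u φ) {p : P} : InF u (φ p) ↔ p.1 = 1 := by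
  constructor
  · rintro ⟨x, y, hx, hy, hp⟩
    obtain ⟨x, rfl⟩ := h.surj x hx
    obtain ⟨y, rfl⟩ := h.surj y hy
    rw [← map_pow, ← map_pow, ← map_mul, h.inj.eq_iff] at hp
    rw [hp]
    simp [pow_two, z2_mul_self]
  · intro hp
    obtain ⟨x, hx⟩ := a5_sq_mul_sq p.2
    refine ⟨φ (1, x⁻¹), φ (1, (x ^ 2 * p.2) ^ 2), h.comm _, h.comm _, ?_⟩
    rw [← map_pow, ← map_pow, ← map_mul]
    congr 1
    refine Prod.ext (by simpa using hp) ?_
    show p.2 = x⁻¹ ^ 2 * ((x ^ 2 * p.2) ^ 2) ^ 2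
    rw [← pow_mul, show 2 * 2 = 3 + 1 from rfl, pow_succ (x ^ 2 * p.2) 3, hx]
    group

theorem inv_iff (h : Loc u φ) {p : P} : Inv (φ p) ↔ p.2 * p.2 = 1 ∧ p ≠ 1 := by
  unfold Inv
  rw [← map_mul, h.eq_one_iff, Ne, h.eq_one_iff]
  exact and_congr_left' ⟨fun h => congrArg Prod.snd h, fun h => Prod.ext (z2_mul_self _) h⟩

theorem card_centralizer (h : Loc u φ) :
    Nat.card (Subgroup.centralizer ({u} : Set G)) = 120 := by
  have : Subgroup.centralizer ({u} : Set G) = φ.range := by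
    ext g
    rw [Subgroup.mem_centralizer_singleton_iff]
    exact ⟨fun hg => h.surj g hg, fun ⟨p, hp⟩ => hp ▸ h.comm p⟩
  rw [this, ← p_card]
  exact (Nat.card_congr (MonoidHom.ofInjective h.inj).toEquiv).symm

theorem pow_cases (h : Loc u φ) {g : G} (hg : Commute g u) :
    g ^ 2 = 1 ∨ g ^ 6 = 1 ∨ g ^ 10 = 1 := by
  obtain ⟨p, rfl⟩ := h.surj g hg
  simp only [← map_pow, h.eq_one_iff]
  rcases a5_pow_cases p.2 with h' | h' | h'
  · exact Or.inl (Prod.ext (z2_pow_even p.1 1) h')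
  · refine Or.inr (Or.inl (Prod.ext (z2_pow_even p.1 3) ?_))
    show p.2 ^ (3 * 2) = 1
    rw [pow_mul, h', one_pow]
  · refine Or.inr (Or.inr (Prod.ext (z2_pow_even p.1 5) ?_))
    show p.2 ^ (5 * 2) = 1
    rw [pow_mul, h', one_pow]

theorem inF_mul (h : Loc u φ) {v w : G} (hv : Commute v u) (hw : Commute w u) :
    InF u (v * w) ↔ (InF u v ↔ InF u w) := by
  obtain ⟨p, rfl⟩ := h.surj v hv
  obtain ⟨q, rfl⟩ := h.surj w hw
  rw [← map_mul, h.inF_iff, h.inF_iff, h.inF_iff]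
  exact z2_mul_eq_one _ _

theorem not_inF_self (h : Loc u φ) : ¬ InF u u := by
  have := h.inF_iff (p := z0)
  rw [h.z] at this
  rw [this]; exact z2_ne

theorem inF_of_odd (h : Loc u φ) {x : G} (hx : Commute x u) {n : ℕ} (hn : Odd n)
    (hxn : x ^ n = 1) : InF u x := by
  obtain ⟨p, rfl⟩ := h.surj x hx
  rw [← map_pow, h.eq_one_iff] at hxn
  rw [h.inF_iff, ← z2_pow_odd p.1 hn]
  exact congrArg Prod.fst hxn

/-- centraliser of an element of odd order -/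
theorem cent_odd (h : Loc u φ) {x : G} (hx : Commute x u) (hx1 : x ≠ 1) {n : ℕ} (hn : Odd n)
    (hxn : x ^ n = 1) {g : G} (hg : Commute g u) (hgx : Commute g x) :
    g ∈ Subgroup.zpowers x ∨ u * g ∈ Subgroup.zpowers x := by
  have hF := h.inF_of_odd hx hn hxn
  obtain ⟨p, rfl⟩ := h.surj x hx
  obtain ⟨q, rfl⟩ := h.surj g hg
  rw [h.inF_iff] at hF
  have h2 : p.2 * p.2 ≠ 1 := by
    intro h2
    obtain ⟨k, rfl⟩ := hn
    apply hx1
    have : φ p * φ p = 1 := by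
      rw [← map_mul, h.eq_one_iff]; exact Prod.ext (z2_mul_self _) h2
    rw [pow_succ, pow_mul, pow_two, this, one_pow, one_mul] at hxn
    exact hxn
  have key : ∃ i : ℕ, q.2 = p.2 ^ i := by
    rcases a5_cent_odd p.2 h2 q.2 (h.commute_iff.1 hgx) with h' | h' | h' | h' | h'
    exacts [⟨0, by simpa using h'⟩, ⟨1, by simpa using h'⟩, ⟨2, h'⟩, ⟨3, h'⟩, ⟨4, h'⟩]
  obtain ⟨i, hi⟩ := key
  rcases z2_cases q.1 with h' | h'
  · left
    refine ⟨i, ?_⟩
    show φ p ^ (i : ℤ) = _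
    rw [zpow_natCast, ← map_pow]
    congr 1
    exact Prod.ext (by simp [hF, h']) hi.symm
  · right
    refine ⟨i, ?_⟩
    show φ p ^ (i : ℤ) = _
    rw [zpow_natCast, ← map_pow, ← h.z, ← map_mul]
    congr 1
    refine Prod.ext ?_ (by simp [z0, hi])
    simp only [Prod.pow_fst, hF, one_pow, Prod.fst_mul, h', z0]
    decide

theorem exists_inverting (h : Loc u φ) {x : G} (hx : Commute x u) :
    ∃ s : G, s * s = 1 ∧ Commute s u ∧ s * x * s⁻¹ = x⁻¹ := by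
  obtain ⟨p, rfl⟩ := h.surj x hx
  obtain ⟨s, hs, hsx⟩ := a5_exists_inv p.2
  refine ⟨φ (1, s), ?_, h.comm _, ?_⟩
  · rw [← map_mul, h.eq_one_iff]; exact Prod.ext (by simp) hs
  · rw [← map_inv, ← map_mul, ← map_mul, ← map_inv]
    congr 1
    refine Prod.ext ?_ hsx
    simp only [Prod.fst_mul, Prod.fst_inv, one_mul, inv_one, mul_one]
    exact eq_inv_of_mul_eq_one_left (z2_mul_self _)

theorem conj_inv (h : Loc u φ) {v w : G} (hv : Inv v) (hw : Inv w) (hvu : Commute v u)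
    (hwu : Commute w u) (hv' : v ≠ u) (hw' : w ≠ u) (hF : InF u v ↔ InF u w) :
    ∃ g : G, Commute g u ∧ g * v * g⁻¹ = w := by
  obtain ⟨p, rfl⟩ := h.surj v hvu
  obtain ⟨q, rfl⟩ := h.surj w hwu
  rw [h.inv_iff] at hv hw
  rw [h.inF_iff, h.inF_iff] at hF
  rw [Ne, h.eq_u_iff] at hv' hw'
  obtain ⟨a, ha⟩ := a5_conj_s p.2 hv.1 (p_snd_ne hv.2 hv')
  obtain ⟨b, hb⟩ := a5_conj_s q.2 hw.1 (p_snd_ne hw.2 hw')
  refine ⟨φ (1, b⁻¹ * a), h.comm _, ?_⟩
  rw [← map_inv, ← map_mul, ← map_mul]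
  congr 1
  refine Prod.ext (by simpa using z2_eq_of_iff _ _ hF) ?_
  show b⁻¹ * a * p.2 * (b⁻¹ * a)⁻¹ = q.2
  calc b⁻¹ * a * p.2 * (b⁻¹ * a)⁻¹ = b⁻¹ * (a * p.2 * a⁻¹) * b := by group
    _ = b⁻¹ * (b * q.2 * b⁻¹) * b := by rw [ha, hb]
    _ = q.2 := by group

theorem conj_odd (h : Loc u φ) {n : ℕ} (hn : n = 3 ∨ n = 5) {x y : G} (hx : Commute x u)
    (hy : Commute y u) (hx1 : x ≠ 1) (hy1 : y ≠ 1) (hxn : x ^ n = 1) (hyn : y ^ n = 1) :
    ∃ g : G, Commute g u ∧ g * x * g⁻¹ ∈ Subgroup.zpowers y := by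
  have hodd : Odd n := by rcases hn with rfl | rfl <;> decide
  have hFx := h.inF_of_odd hx hodd hxn
  have hFy := h.inF_of_odd hy hodd hyn
  obtain ⟨p, rfl⟩ := h.surj x hx
  obtain ⟨q, rfl⟩ := h.surj y hy
  rw [h.inF_iff] at hFx hFy
  rw [← map_pow, h.eq_one_iff] at hxn hyn
  rw [Ne, h.eq_one_iff] at hx1 hy1
  have hp1 : p.2 ≠ 1 := fun h' => hx1 (Prod.ext hFx h')
  have hq1 : q.2 ≠ 1 := fun h' => hy1 (Prod.ext hFy h')
  have hp : p.2 ^ n = 1 := congrArg Prod.snd hxn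
  have hq : q.2 ^ n = 1 := congrArg Prod.snd hyn
  have key : ∃ (g : A5) (i : ℕ), g * p.2 * g⁻¹ = q.2 ^ i := by
    rcases hn with rfl | rfl
    · obtain ⟨a, ha⟩ := a5_conj_x p.2 hp hp1
      obtain ⟨b, hb⟩ := a5_conj_x q.2 hq hq1
      refine ⟨b⁻¹ * a, 1, ?_⟩
      calc b⁻¹ * a * p.2 * (b⁻¹ * a)⁻¹ = b⁻¹ * (a * p.2 * a⁻¹) * b := by group
        _ = b⁻¹ * (b * q.2 * b⁻¹) * b := by rw [ha, hb]
        _ = q.2 ^ 1 := by group
    · have aux : ∀ r : A5, r ^ 5 = 1 → r ≠ 1 → ∃ (a : A5) (i j : ℕ), a * r * a⁻¹ = a5y ^ i ∧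
          a * r ^ j * a⁻¹ = a5y := by
        intro r hr hr1
        obtain ⟨a, ha | ha⟩ := a5_conj_y r hr hr1
        · exact ⟨a, 1, 1, by simpa using ha, by simpa using ha⟩
        · refine ⟨a, 3, 2, ?_, ha⟩
          rw [← ha, conj_pow, ← pow_mul, show 2 * 3 = 5 + 1 from rfl, pow_succ r 5, hr, one_mul]
      obtain ⟨a, i, -, ha, -⟩ := aux p.2 hp hp1
      obtain ⟨b, -, j, -, hb⟩ := aux q.2 hq hq1
      refine ⟨b⁻¹ * a, j * i, ?_⟩
      calc b⁻¹ * a * p.2 * (b⁻¹ * a)⁻¹ = b⁻¹ * (a * p.2 * a⁻¹) * b := by group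
        _ = b⁻¹ * (b * q.2 ^ j * b⁻¹) ^ i * b := by rw [ha, hb]
        _ = q.2 ^ (j * i) := by rw [conj_pow, pow_mul]; group
  obtain ⟨g, i, hg⟩ := key
  refine ⟨φ (1, g), h.comm _, i, ?_⟩
  show φ q ^ (i : ℤ) = _
  rw [zpow_natCast, ← map_pow, ← map_inv, ← map_mul, ← map_mul]
  congr 1
  exact Prod.ext (by simp [hFx, hFy]) hg.symm

theorem sq_of_comm (h : Loc u φ) {v g : G} (hv : Inv v) (hvu : Commute v u) (hv' : v ≠ u)
    (hg : Commute g u) (hgv : Commute g v) : g * g = 1 := by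
  obtain ⟨p, rfl⟩ := h.surj v hvu
  obtain ⟨q, rfl⟩ := h.surj g hg
  rw [h.inv_iff] at hv
  rw [Ne, h.eq_u_iff] at hv'
  rw [← map_mul, h.eq_one_iff]
  exact Prod.ext (z2_mul_self _)
    (a5_sq_of_comm p.2 hv.1 (p_snd_ne hv.2 hv') q.2 (h.commute_iff.1 hgv))

theorem cyc (h : Loc u φ) {e : G} (he : Inv e) (heu : Commute e u) (he' : e ≠ u) :
    ∃ w : G, Commute w u ∧ w * e * w⁻¹ ≠ e ∧ Commute (w * e * w⁻¹) e ∧
      w * (w * e * w⁻¹) * w⁻¹ ≠ e ∧ Commute (w * (w * e * w⁻¹) * w⁻¹) e ∧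
      w * (w * (w * e * w⁻¹) * w⁻¹) * w⁻¹ = e := by
  obtain ⟨p, rfl⟩ := h.surj e heu
  rw [h.inv_iff] at he
  rw [Ne, h.eq_u_iff] at he'
  have hp1 := p_snd_ne he.2 he'
  obtain ⟨w, h1, h2, h3, h4⟩ := a5_cyc p.2 he.1 hp1
  refine ⟨φ (1, w), h.comm _, ?_, ?_, ?_, ?_, ?_⟩
  all_goals simp only [← map_inv, ← map_mul, Ne, h.inj.eq_iff, h.commute_iff]
  · exact fun h' => h1 (congrArg Prod.snd h')
  · exact h2
  · intro h'
    have h5 : w * (w * p.2 * w⁻¹) * w⁻¹ = p.2 := congrArg Prod.snd h'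
    rw [h3] at h5
    have h6 : w * p.2 * w⁻¹ = 1 := by simpa using h5
    apply hp1
    calc p.2 = w⁻¹ * (w * p.2 * w⁻¹) * w := by group
      _ = 1 := by rw [h6]; group
  · show w * (w * p.2 * w⁻¹) * w⁻¹ * p.2 = p.2 * (w * (w * p.2 * w⁻¹) * w⁻¹)
    rw [h3, mul_assoc p.2, h2]
  · refine Prod.ext (by simp) ?_
    show w * (w * (w * p.2 * w⁻¹) * w⁻¹) * w⁻¹ = p.2
    rw [h3, h4]

end Loc

end CL.J1C
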