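import Cfsg.Agent.Base
import Cfsg.Agent.J1.Loc

/-!
# Involutions with centraliser `2 × A₅`, continued

Coxeter-type triples inside the centraliser, generation of the centraliser, and the
passage from an abstract isomorphism to `Loc`.
-/

set_option autoImplicit false

namespace CL.J1C

variable {G : Type*} [Group G]

theorem exists_loc {t : G} (ht : t ≠ 1) (e : Subgroup.centralizer ({t} : Set G) ≃* P) :
    ∃ φ : P →* G, Loc t φ := by
  have htC : t ∈ Subgroup.centralizer ({t} : Set G) := by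
    rw [Subgroup.mem_centralizer_singleton_iff]
  refine ⟨(Subgroup.centralizer ({t} : Set G)).subtype.comp e.symm.toMonoidHom,
    Subtype.val_injective.comp e.symm.injective, ?_, fun g hg => ?_⟩
  · have : e ⟨t, htC⟩ = z0 := by
      refine p_eq_z0_of_central (fun h => ht ?_) (fun q => ?_)
      · exact congrArg Subtype.val (e.injective (h.trans (map_one e).symm))
      · obtain ⟨q, rfl⟩ := e.surjective q
        rw [← map_mul, ← map_mul]
        congr 1
        exact Subtype.ext (Subgroup.mem_centralizer_singleton_iff.1 q.2)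
    rw [← this]; simp
  · exact ⟨e ⟨g, Subgroup.mem_centralizer_singleton_iff.2 hg⟩, by simp⟩

theorem a5_eq_top (K : Subgroup A5) {v x y : A5} (hv : v ∈ K) (hx : x ∈ K) (hy : y ∈ K)
    (hv2 : v * v = 1) (hv1 : v ≠ 1) (hx3 : x ^ 3 = 1) (hx1 : x ≠ 1) (hy5 : y ^ 5 = 1)
    (hy1 : y ≠ 1) : K = ⊤ := by
  have f2 : Fact (Nat.Prime 2) := ⟨Nat.prime_two⟩
  have f3 : Fact (Nat.Prime 3) := ⟨Nat.prime_three⟩
  have f5 : Fact (Nat.Prime 5) := ⟨Nat.prime_five⟩
  have h2 : 2 ∣ Nat.card K := by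
    have := Subgroup.orderOf_dvd_natCard K hv
    rwa [orderOf_eq_prime (p := 2) (by rw [pow_two, hv2]) hv1] at this
  have h3 : 3 ∣ Nat.card K := by
    have := Subgroup.orderOf_dvd_natCard K hx
    rwa [orderOf_eq_prime hx3 hx1] at this
  have h5 : 5 ∣ Nat.card K := by
    have := Subgroup.orderOf_dvd_natCard K hy
    rwa [orderOf_eq_prime hy5 hy1] at this
  have hm := K.card_mul_index
  rw [a5_card] at hm
  have hi : K.index = 1 ∨ K.index = 2 := by
    have h30 : 30 ∣ Nat.card K := by omega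
    obtain ⟨k, hk⟩ := h30
    rw [hk] at hm
    have : k * K.index = 2 := by nlinarith
    have h' : K.index ∣ 2 := Dvd.intro_left _ this
    exact (Nat.dvd_prime Nat.prime_two).1 h'
  rcases hi with hi | hi
  · exact Subgroup.index_eq_one.1 hi
  · rcases (Subgroup.normal_of_index_eq_two hi).eq_bot_or_eq_top with h | h
    · rw [h] at hv; exact absurd (Subgroup.mem_bot.1 hv) hv1
    · exact h

/-- the four-group generated by two commuting involutions -/
def V4 (u v g : G) : Prop := g = 1 ∨ g = u ∨ g = v ∨ g = u * v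

namespace Loc

variable {u : G} {φ : P →* G}

theorem exists_d (h : Loc u φ) {c e : G} (hc : Inv c) (he : Inv e) (hcu : Commute c u)
    (heu : Commute e u) (hc' : c ≠ u) (he' : e ≠ u) (hce : Commute c e) (hne : c ≠ e)
    (hF : InF u c ↔ InF u e) :
    ∃ d : G, Inv d ∧ Commute d u ∧ d ≠ u ∧ (InF u d ↔ InF u e) ∧ d ≠ c ∧ d ≠ e ∧
      (c * d) ^ 3 = 1 ∧ (d * e) ^ 5 = 1 ∧ (InF u e → (c * d * e) ^ 5 = 1) ∧
      (¬ InF u e → (c * d * e) ^ 5 = u) := by
  obtain ⟨p, rfl⟩ := h.surj c hcu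
  obtain ⟨q, rfl⟩ := h.surj e heu
  rw [h.inv_iff] at hc he
  rw [Ne, h.eq_u_iff] at hc' he'
  rw [h.inF_iff, h.inF_iff] at hF
  have h1 : p.1 = q.1 := z2_eq_of_iff _ _ hF
  have hne' : p.2 ≠ q.2 := fun h' => hne (congrArg φ (Prod.ext h1 h'))
  obtain ⟨d, d1, d2, d3, d4, d5, d6, d7⟩ := a5_exists_d q.2 he.1 (p_snd_ne he.2 he') p.2
    (h.commute_iff.1 hce) (p_snd_ne hc.2 hc') hne'
  have key : (p * (q.1, d) * q) ^ 5 = (q.1, 1) := by
    refine Prod.ext ?_ d7
    show (p.1 * q.1 * q.1) ^ 5 = q.1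
    rw [h1, z2_mul_self, one_mul, z2_pow_odd _ (by decide)]
  refine ⟨φ (q.1, d), h.inv_iff.2 ⟨d1, fun h' => d2 (congrArg Prod.snd h')⟩, h.comm _, ?_, ?_,
    ?_, ?_, ?_, ?_, ?_, ?_⟩
  · rw [Ne, h.eq_u_iff]; exact fun h' => d2 (congrArg Prod.snd h')
  · rw [h.inF_iff, h.inF_iff]
  · exact fun h' => d3 (congrArg Prod.snd (h.inj h'))
  · exact fun h' => d4 (congrArg Prod.snd (h.inj h'))
  · rw [← map_mul, ← map_pow, h.eq_one_iff]
    refine Prod.ext ?_ d5
    show (p.1 * q.1) ^ 3 = 1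
    rw [h1, z2_mul_self, one_pow]
  · rw [← map_mul, ← map_pow, h.eq_one_iff]
    refine Prod.ext ?_ d6
    show (q.1 * q.1) ^ 5 = 1
    rw [z2_mul_self, one_pow]
  · rw [h.inF_iff, ← map_mul, ← map_mul, ← map_pow, key, h.eq_one_iff]
    exact fun h' => Prod.ext h' rfl
  · rw [h.inF_iff, ← map_mul, ← map_mul, ← map_pow, key, h.eq_u_iff]
    exact fun h' => Prod.ext ((z2_cases _).resolve_left h') rfl

theorem abc (h : Loc u φ) {a b c : G} (ha : Inv a) (hb : Inv b) (hc : Inv c) (hau : Commute a u)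
    (hbu : Commute b u) (hcu : Commute c u) (ha' : a ≠ u) (hc' : c ≠ u) (hca : Commute c a)
    (hne : c ≠ a) (hF : InF u c ↔ InF u a) (hba : b ≠ a) (hab : (a * b) ^ 3 = 1) :
    (b * c) ^ 5 = 1 ∧ b ≠ c ∧ (InF u b ↔ InF u a) ∧ (InF u a → (a * b * c) ^ 5 = 1) ∧
      (¬ InF u a → (a * b * c) ^ 5 = u) := by
  have hFb : InF u b ↔ InF u a := by
    have := (h.inF_mul hau hbu).1 (h.inF_of_odd (hau.mul_left hbu) (by decide) hab)
    exact this.symm
  obtain ⟨p, rfl⟩ := h.surj a hau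
  obtain ⟨q, rfl⟩ := h.surj b hbu
  obtain ⟨r, rfl⟩ := h.surj c hcu
  rw [h.inv_iff] at ha hb hc
  rw [Ne, h.eq_u_iff] at ha' hc'
  have hFb' := hFb
  rw [h.inF_iff, h.inF_iff] at hF hFb'
  have h1 : r.1 = p.1 := z2_eq_of_iff _ _ hF
  have h2 : q.1 = p.1 := z2_eq_of_iff _ _ hFb'
  rw [← map_mul, ← map_pow, h.eq_one_iff] at hab
  obtain ⟨d1, d2, d3⟩ := a5_abc p.2 ha.1 (p_snd_ne ha.2 ha') r.2 (h.commute_iff.1 hca)
    (p_snd_ne hc.2 hc') (fun h' => hne (congrArg φ (Prod.ext h1 h'))) q.2 hb.1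
    (fun h' => hba (congrArg φ (Prod.ext h2 h'))) (congrArg Prod.snd hab)
  have key : (p * q * r) ^ 5 = (p.1, 1) := by
    refine Prod.ext ?_ d3
    show (p.1 * q.1 * r.1) ^ 5 = p.1
    rw [h1, h2, z2_mul_self, one_mul, z2_pow_odd _ (by decide)]
  refine ⟨?_, fun h' => d2 (congrArg Prod.snd (h.inj h')), hFb, ?_, ?_⟩
  · rw [← map_mul, ← map_pow, h.eq_one_iff]
    refine Prod.ext ?_ d1
    show (q.1 * r.1) ^ 5 = 1
    rw [h1, h2, z2_mul_self, one_pow]
  · rw [h.inF_iff, ← map_mul, ← map_mul, ← map_pow, key, h.eq_one_iff]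
    exact fun h' => Prod.ext h' rfl
  · rw [h.inF_iff, ← map_mul, ← map_mul, ← map_pow, key, h.eq_u_iff]
    exact fun h' => Prod.ext ((z2_cases _).resolve_left h') rfl

/-- A subgroup containing `u` and elements of orders `2, 3, 5` of the centraliser contains it. -/
theorem mem_of_commute (h : Loc u φ) (U : Subgroup G) (hu : u ∈ U) {v x y : G} (hv : v ∈ U)
    (hx : x ∈ U) (hy : y ∈ U) (hvu : Commute v u) (hxu : Commute x u) (hyu : Commute y u)
    (hvi : Inv v) (hv' : v ≠ u) (hx3 : x ^ 3 = 1) (hx1 : x ≠ 1) (hy5 : y ^ 5 = 1)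
    (hy1 : y ≠ 1) {g : G} (hg : Commute g u) : g ∈ U := by
  have hFx := h.inF_of_odd hxu (by decide) hx3
  have hFy := h.inF_of_odd hyu (by decide) hy5
  obtain ⟨p, rfl⟩ := h.surj v hvu
  obtain ⟨q, rfl⟩ := h.surj x hxu
  obtain ⟨r, rfl⟩ := h.surj y hyu
  obtain ⟨k, rfl⟩ := h.surj g hg
  rw [h.inF_iff] at hFx hFy
  rw [h.inv_iff] at hvi
  rw [Ne, h.eq_u_iff] at hv'
  rw [← map_pow, h.eq_one_iff] at hx3 hy5
  rw [Ne, h.eq_one_iff] at hx1 hy1
  have htop := a5_eq_top ((U.comap φ).map (MonoidHom.snd Z2 A5)) (v := p.2) (x := q.2) (y := r.2)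
    ⟨p, hv, rfl⟩ ⟨q, hx, rfl⟩ ⟨r, hy, rfl⟩ hvi.1 (p_snd_ne hvi.2 hv') (congrArg Prod.snd hx3)
    (fun h' => hx1 (Prod.ext hFx h')) (congrArg Prod.snd hy5) (fun h' => hy1 (Prod.ext hFy h'))
  have hk : k.2 ∈ (U.comap φ).map (MonoidHom.snd Z2 A5) := by rw [htop]; trivial
  obtain ⟨l, hl, hlk⟩ := hk
  have hlk' : l.2 = k.2 := hlk
  by_cases h1 : l.1 = k.1
  · rwa [← Prod.ext h1 hlk']
  · have : k = z0 * l := by
      refine Prod.ext ?_ (by simp [z0, hlk'])
      show k.1 = Multiplicative.ofAdd 1 * l.1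
      revert h1
      generalize l.1 = a; generalize k.1 = b
      revert a b; decide
    rw [this, map_mul, h.z]
    exact U.mul_mem hu hl

theorem v4_iff (h : Loc u φ) {p q : P} : V4 u (φ p) (φ q) ↔ q.2 = 1 ∨ q.2 = p.2 := by
  unfold V4
  rw [h.eq_one_iff, h.eq_u_iff, h.inj.eq_iff]
  conv_lhs => rw [← h.z, ← map_mul, h.inj.eq_iff]
  constructor
  · rintro (rfl | rfl | rfl | rfl)
    exacts [Or.inl rfl, Or.inl rfl, Or.inr rfl, Or.inr (by simp [z0])]
  · rintro (h' | h')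
    · rcases z2_cases q.1 with h1 | h1
      · exact Or.inl (Prod.ext h1 h')
      · exact Or.inr (Or.inl (Prod.ext h1 h'))
    · by_cases h1 : q.1 = p.1
      · exact Or.inr (Or.inr (Or.inl (Prod.ext h1 h')))
      · refine Or.inr (Or.inr (Or.inr (Prod.ext ?_ (by simp [z0, h']))))
        show q.1 = Multiplicative.ofAdd 1 * p.1
        revert h1
        generalize q.1 = a; generalize p.1 = b
        revert a b; decide

theorem exists_not_v4 (h : Loc u φ) {v : G} (hv : Inv v) (hvu : Commute v u) (hv' : v ≠ u) :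
    ∃ r : G, Commute r u ∧ Commute r v ∧ ¬ V4 u v r ∧
      ∀ g : G, Commute g u → Commute g v → V4 u v g ∨ V4 u v (r * g) := by
  obtain ⟨p, rfl⟩ := h.surj v hvu
  rw [h.inv_iff] at hv
  rw [Ne, h.eq_u_iff] at hv'
  have hp1 := p_snd_ne hv.2 hv'
  obtain ⟨w, h1, h2, -, -⟩ := a5_cyc p.2 hv.1 hp1
  set c := w * p.2 * w⁻¹ with hc
  have hc1 : c ≠ 1 := by
    intro h6
    apply hp1
    calc p.2 = w⁻¹ * (w * p.2 * w⁻¹) * w := by group
      _ = 1 := by rw [← hc, h6]; group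
  have hcc : c * c = 1 := a5_sq_of_comm p.2 hv.1 hp1 c h2
  refine ⟨φ (1, c), h.comm _, h.commute_iff.2 h2, ?_, fun g hg hgv => ?_⟩
  · rw [h.v4_iff]; rintro (h' | h')
    exacts [hc1 h', h1 h']
  · obtain ⟨q, rfl⟩ := h.surj g hg
    rw [← map_mul, h.v4_iff, h.v4_iff]
    rcases a5_cent_inv p.2 hv.1 hp1 c h2 hc1 h1 q.2 (h.commute_iff.1 hgv) with
      h' | h' | h' | h'
    · exact Or.inl (Or.inl h')
    · exact Or.inl (Or.inr h')
    · refine Or.inr (Or.inl ?_)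
      show c * q.2 = 1
      rw [h', hcc]
    · refine Or.inr (Or.inr ?_)
      show c * q.2 = p.2
      rw [h', ← mul_assoc, h2, mul_assoc, hcc, mul_one]

/-- An element of order three permuting the involutions of a four-group centralises an
involution. -/
theorem exists_inv_commute (h : Loc u φ) {s w : G} (hs : Inv s) (hsu : Commute s u)
    (hs' : s ≠ u) (hw : w ^ 3 = 1) (h1 : w * u * w⁻¹ = s) (h2 : w * s * w⁻¹ = u * s) :
    ∃ r : G, Inv r ∧ Commute r w := by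
  have hu := h.inv
  have h3 : w * (u * s) * w⁻¹ = u := by
    calc w * (u * s) * w⁻¹ = (w * u * w⁻¹) * (w * s * w⁻¹) := by group
      _ = u * (s * s) := by rw [h1, h2, ← mul_assoc, hsu.eq, mul_assoc]
      _ = u := by rw [hs.1, mul_one]
  have hS : ∀ g : G, Commute g u ∧ Commute g s →
      Commute (w * g * w⁻¹) u ∧ Commute (w * g * w⁻¹) s := by
    rintro g ⟨hgu, hgs⟩
    refine ⟨?_, ?_⟩
    · rw [← h3]; exact commute_conj (hgu.mul_right hgs) w
    · rw [← h1]; exact commute_conj hgu w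
  have hsq : ∀ g : G, Commute g u ∧ Commute g s → g * g = 1 := fun g hg =>
    h.sq_of_comm hs hsu hs' hg.1 hg.2
  have hcomm : ∀ g g' : G, Commute g u ∧ Commute g s → Commute g' u ∧ Commute g' s →
      g * g' = g' * g := by
    intro g g' hg hg'
    have e1 := hsq _ ⟨hg.1.mul_left hg'.1, hg.2.mul_left hg'.2⟩
    rw [← inv_eq_of_mul_eq_one_right e1, mul_inv_rev, inv_eq_of_mul_eq_one_right (hsq g hg),
      inv_eq_of_mul_eq_one_right (hsq g' hg')]
  have hV : ∀ g : G, V4 u s g → V4 u s (w * g * w⁻¹) := by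
    rintro g (rfl | rfl | rfl | rfl)
    · left; group
    · exact Or.inr (Or.inr (Or.inl h1))
    · exact Or.inr (Or.inr (Or.inr h2))
    · exact Or.inr (Or.inl h3)
  have hcube : ∀ g : G, w * (w * (w * g * w⁻¹) * w⁻¹) * w⁻¹ = g := by
    intro g
    calc w * (w * (w * g * w⁻¹) * w⁻¹) * w⁻¹ = w ^ 3 * g * (w ^ 3)⁻¹ := by
          simp only [pow_succ, pow_zero]; group
      _ = g := by rw [hw]; group
  have hV' : ∀ g : G, V4 u s (w * g * w⁻¹) → V4 u s g := fun g hg => by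
    have := hV _ (hV _ hg)
    rwa [hcube] at this
  obtain ⟨r, hru, hrs, hrV, hr⟩ := h.exists_not_v4 hs hsu hs'
  have hr0 : Commute r u ∧ Commute r s := ⟨hru, hrs⟩
  have hr1 := hS r hr0
  have hr2 := hS _ hr1
  set r1 := w * r * w⁻¹ with hr1d
  set r2 := w * r1 * w⁻¹ with hr2d
  have n1 : ¬ V4 u s r1 := fun h' => hrV (hV' _ h')
  have n2 : ¬ V4 u s r2 := fun h' => n1 (hV' _ h')
  have hrr1 : V4 u s (r * r1) := (hr r1 hr1.1 hr1.2).resolve_left n1
  have h01 : Commute (r * r1) u ∧ Commute (r * r1) s :=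
    ⟨hru.mul_left hr1.1, hrs.mul_left hr1.2⟩
  refine ⟨r * r1 * r2, ⟨hsq _ ⟨h01.1.mul_left hr2.1, h01.2.mul_left hr2.2⟩, fun h' => n2 ?_⟩, ?_⟩
  · have : r2 = r * r1 := by
      rw [← inv_eq_of_mul_eq_one_right (hsq _ h01)]
      exact eq_inv_of_mul_eq_one_right h'
    rw [this]; exact hrr1
  · refine (commute_of_conj_eq ?_).symm
    calc w * (r * r1 * r2) * w⁻¹ = (w * r * w⁻¹) * (w * r1 * w⁻¹) * (w * r2 * w⁻¹) := by group
      _ = r1 * r2 * r := by rw [← hr1d, ← hr2d, show w * r2 * w⁻¹ = r from hcube r]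
      _ = r * r1 * r2 := by
        rw [hcomm _ r ⟨hr1.1.mul_left hr2.1, hr1.2.mul_left hr2.2⟩ hr0, mul_assoc r r1 r2]

end Loc

end CL.J1C
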