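import Cfsg.Agent.Base
import Cfsg.Agent.J1.Loc2
import Cfsg.Agent.WAL.EightFusion
import Cfsg.Agent.Invol.BFCor

/-!
# Groups of type `J₁`: the hypothesis and first consequences

`Hyp G`: one class of involutions, each with centraliser `2 × A₅`, and `7` divides the order.
For an element `x` of order `3` or `5` centralised by an involution, `K x` is the normal
`2`-complement of its centraliser.
-/

set_option autoImplicit false

open Subgroup

namespace CL.J1C

variable {G : Type*} [Group G]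

/-- One class of involutions, with centraliser `2 × A₅`. -/
structure Hyp (G : Type*) [Group G] : Prop where
  conj : ∀ u v : G, Inv u → Inv v → ∃ g : G, g * u * g⁻¹ = v
  loc : ∀ u : G, Inv u → ∃ φ : P →* G, Loc u φ
  seven : 7 ∣ Nat.card G
  ex : ∃ u : G, Inv u

theorem eq_one_of_pow_of_coprime {g : G} {m n : ℕ} (hm : g ^ m = 1) (hn : g ^ n = 1)
    (h : m.Coprime n) : g = 1 := by
  have := (pow_gcd_eq_one (a := g) (m := m) (n := n)).2 ⟨hm, hn⟩
  rwa [h.gcd_eq_one, pow_one] at this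

theorem hyp_of_perfect [Finite G] (hG : _root_.commutator G = ⊤) {t : G}
    (ht : Cfsg.IsTwoCentralInvolution t) (e : centralizer ({t} : Set G) ≃* P) : Hyp G := by
  have : Fact (Nat.Prime 2) := ⟨Nat.prime_two⟩
  obtain ⟨h2, S, htS, hS⟩ := ht
  have hti : Inv t := inv_iff_orderOf.2 h2
  obtain ⟨φ, hφ⟩ := exists_loc hti.2 e
  have hle : (S : Subgroup G) ≤ centralizer ({t} : Set G) := fun x hx =>
    mem_centralizer_singleton_iff.2 (hS x hx)
  have h8 : Nat.card (S : Subgroup G) = 8 := by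
    obtain ⟨k, hk⟩ := S.isPGroup'.exists_card_eq
    have h1 : Nat.card (S : Subgroup G) ∣ 120 := hφ.card_centralizer ▸ card_dvd_of_le hle
    have h3 : 2 ^ 3 ∣ Nat.card G :=
      (show 2 ^ 3 ∣ 120 by decide).trans (hφ.card_centralizer ▸ card_subgroup_dvd_card _)
    have h4 := S.pow_dvd_card_of_pow_dvd_card h3
    rw [hk] at h1 h4 ⊢
    have h5 : 3 ≤ k := (Nat.pow_dvd_pow_iff_le_right (by norm_num)).1 h4
    have h6 : k ≤ 3 := by
      by_contra h6
      have : 2 ^ 4 ∣ 120 := (pow_dvd_pow 2 (by omega)).trans h1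
      omega
    obtain rfl : k = 3 := le_antisymm h6 h5
    rfl
  have hsq : ∀ s ∈ (S : Subgroup G), s * s = 1 := by
    intro s hs
    have h1 : s ^ 8 = 1 := by
      have := pow_card_eq_one' (G := (S : Subgroup G)) (x := ⟨s, hs⟩)
      rw [h8] at this
      exact congrArg Subtype.val this
    rw [← pow_two]
    rcases hφ.pow_cases (hS s hs) with h | h | h
    · exact h
    · exact (pow_gcd_eq_one (a := s) (m := 8) (n := 6)).2 ⟨h1, h⟩
    · exact (pow_gcd_eq_one (a := s) (m := 8) (n := 10)).2 ⟨h1, h⟩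
  have hc : IsMulCommutative (S : Subgroup G) := ⟨⟨fun a b => Subtype.ext (by
    have e1 := hsq _ ((S : Subgroup G).mul_mem a.2 b.2)
    show (a : G) * b = b * a
    rw [← inv_eq_of_mul_eq_one_right e1, mul_inv_rev, inv_eq_of_mul_eq_one_right (hsq a a.2),
      inv_eq_of_mul_eq_one_right (hsq b b.2)])⟩⟩
  have hconj : ∀ u v : G, Inv u → Inv v → ∃ g : G, g * u * g⁻¹ = v := fun u v hu hv =>
    WAL.eight_conj hG S hc h8 hu.1 hu.2 hv.1 hv.2
  refine ⟨hconj, fun u hu => ?_, WAL.seven_dvd_card hG S hc h8, t, hti⟩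
  obtain ⟨g, rfl⟩ := hconj t u hti hu
  exact ⟨_, hφ.conj g⟩

theorem hyp_of_simple [Finite G] [IsSimpleGroup G] {t : G}
    (ht : Cfsg.IsTwoCentralInvolution t) (e : centralizer ({t} : Set G) ≃* P) : Hyp G := by
  refine hyp_of_perfect ?_ ht e
  rcases (inferInstance : (_root_.commutator G).Normal).eq_bot_or_eq_top with h | h
  · exfalso
    obtain ⟨φ, hφ⟩ := exists_loc (inv_iff_orderOf.2 ht.1).2 e
    have hcomm : ∀ a b : G, Commute a b := fun a b => by
      rw [← commutatorElement_eq_one_iff_commute, ← mem_bot, ← h]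
      exact commutator_mem_commutator (mem_top a) (mem_top b)
    have := hφ.commute_iff.1 (hcomm (φ (1, a5s)) (φ (1, a5x)))
    exact absurd this (by decide)
  · exact h

theorem conj_pow_odd {c x y : G} (h1 : c * x * c⁻¹ = y) (h2 : c * y * c⁻¹ = x) {m : ℕ}
    (hm : Odd m) : c ^ m * x * (c ^ m)⁻¹ = y := by
  obtain ⟨k, rfl⟩ := hm
  have h3 : Commute (c ^ 2) x := commute_of_conj_eq (by
    calc c ^ 2 * x * (c ^ 2)⁻¹ = c * (c * x * c⁻¹) * c⁻¹ := by rw [pow_two]; group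
      _ = x := by rw [h1, h2])
  have h4 := conj_eq_of_commute (h3.pow_left k)
  calc c ^ (2 * k + 1) * x * (c ^ (2 * k + 1))⁻¹
      = c * ((c ^ 2) ^ k * x * ((c ^ 2) ^ k)⁻¹) * c⁻¹ := by rw [pow_succ', pow_mul]; group
    _ = y := by rw [h4, h1]

theorem conj_inv_of_inverts {c x : G} (h : c * x * c⁻¹ = x⁻¹) : c * x⁻¹ * c⁻¹ = x := by
  rw [← conj_inv, h, inv_inv]

theorem eq_one_of_odd {x : G} {n : ℕ} (hn : Odd n) (hx : x ^ n = 1) (h : x⁻¹ = x) : x = 1 :=
  eq_one_of_pow_of_coprime hx (show x ^ 2 = 1 by rw [pow_two]; nth_rw 1 [← h]; simp)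
    (Nat.coprime_two_right.2 hn)

theorem inverts_of_mem_zpowers {c x y : G} (h : c * x * c⁻¹ = x⁻¹) (hy : y ∈ zpowers x) :
    c * y * c⁻¹ = y⁻¹ := by
  obtain ⟨k, rfl⟩ := hy
  show c * x ^ k * c⁻¹ = (x ^ k)⁻¹
  rw [← conj_zpow, h, inv_zpow]

theorem commute_of_mem_zpowers {g x y : G} (h : Commute g x) (hy : y ∈ zpowers x) :
    Commute g y := by
  obtain ⟨k, rfl⟩ := hy
  exact h.zpow_right k

theorem pow_eq_one_of_mem_zpowers {x y : G} {n : ℕ} (h : x ^ n = 1) (hy : y ∈ zpowers x) :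
    y ^ n = 1 := by
  obtain ⟨k, rfl⟩ := hy
  show (x ^ k) ^ n = 1
  rw [← zpow_natCast, ← zpow_mul, mul_comm, zpow_mul, zpow_natCast, h, one_zpow]

theorem mem_zpowers_symm {x y : G} {p : ℕ} (hp : p.Prime) (hx : x ^ p = 1) (hy : y ∈ zpowers x)
    (hy1 : y ≠ 1) : x ∈ zpowers y := by
  have : Fact p.Prime := ⟨hp⟩
  have hx1 : x ≠ 1 := by rintro rfl; exact hy1 (by simpa using hy)
  have hox := orderOf_eq_prime hx hx1
  have hoy := orderOf_eq_prime (pow_eq_one_of_mem_zpowers hx hy) hy1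
  have hfin : Finite (zpowers x) :=
    Nat.finite_of_card_ne_zero (by rw [Nat.card_zpowers, hox]; exact hp.ne_zero)
  have : zpowers y = zpowers x :=
    eq_of_le_of_card_ge (zpowers_le.2 hy) (by rw [Nat.card_zpowers, Nat.card_zpowers, hox, hoy])
  rw [this]; exact mem_zpowers x

/-- The splitting of an element under an involution. -/
theorem exists_split {u k : G} (hu : u * u = 1) (hodd : Odd (orderOf (k⁻¹ * (u * k * u⁻¹)))) :
    ∃ h ∈ zpowers (k⁻¹ * (u * k * u⁻¹)), u * h * u⁻¹ = h⁻¹ ∧ Commute (k * h) u := by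
  set j := k⁻¹ * (u * k * u⁻¹) with hj
  have hu' : u⁻¹ = u := inv_eq_of_mul_eq_one_right hu
  have hinv : u * j * u⁻¹ = j⁻¹ := by
    rw [hj, hu']
    calc u * (k⁻¹ * (u * k * u)) * u = u * k⁻¹ * u * k * (u * u) := by group
      _ = (k⁻¹ * (u * k * u))⁻¹ := by rw [hu, mul_inv_rev, mul_inv_rev, mul_inv_rev, hu']; group
  obtain ⟨m, hm⟩ := hodd
  have hmem : j ^ (m + 1) ∈ zpowers j := pow_mem (mem_zpowers j) _
  have h2 : j ^ (m + 1) * j ^ (m + 1) = j := by
    rw [← pow_add, show m + 1 + (m + 1) = (2 * m + 1) + 1 by ring, pow_succ, ← hm,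
      pow_orderOf_eq_one, one_mul]
  refine ⟨j ^ (m + 1), hmem, inverts_of_mem_zpowers hinv hmem, (commute_of_conj_eq ?_).symm⟩
  calc u * (k * j ^ (m + 1)) * u⁻¹ = k * j * (u * j ^ (m + 1) * u⁻¹) := by rw [hj]; group
    _ = k * (j ^ (m + 1) * j ^ (m + 1)) * (j ^ (m + 1))⁻¹ := by
        rw [h2, inverts_of_mem_zpowers hinv hmem]
    _ = k * j ^ (m + 1) := by group

theorem Loc.mem_zpowers_of_odd {u : G} {φ : P →* G} (h : Loc u φ) {x g : G} (hx : Commute x u)
    (hx1 : x ≠ 1) {n m : ℕ} (hn : Odd n) (hxn : x ^ n = 1) (hg : Commute g u) (hgx : Commute g x)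
    (hm : Odd m) (hgm : g ^ m = 1) : g ∈ zpowers x := by
  refine (h.cent_odd hx hx1 hn hxn hg hgx).resolve_right fun h' => ?_
  have h1 := h.inF_of_odd ((Commute.refl u).mul_left hg) hn (pow_eq_one_of_mem_zpowers hxn h')
  rw [h.inF_mul (Commute.refl u) hg] at h1
  exact h.not_inF_self (h1.2 (h.inF_of_odd hg hm hgm))

theorem Loc.odd_cases {u : G} {φ : P →* G} (h : Loc u φ) {x : G} (hx : Commute x u)
    {n : ℕ} (hn : Odd n) (hxn : x ^ n = 1) : x ^ 3 = 1 ∨ x ^ 5 = 1 := by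
  have h2 : ∀ k, x ^ (k * 2) = 1 → x ^ k = 1 := fun k hk =>
    eq_one_of_pow_of_coprime (n := 2) (m := n) (by rw [← pow_mul, mul_comm, pow_mul, hxn, one_pow])
      (by rw [← pow_mul, hk]) (Nat.coprime_two_right.2 hn)
  rcases h.pow_cases hx with h' | h' | h'
  · left
    have := h2 1 h'
    rw [pow_one] at this
    rw [this, one_pow]
  · exact Or.inl (h2 3 h')
  · exact Or.inr (h2 5 h')

namespace Hyp

theorem sq_of_pow_four (H : Hyp G) {g : G} (h : g ^ 4 = 1) : g * g = 1 := by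
  by_contra hne
  have hi : Inv (g * g) := ⟨by rw [← h]; simp [pow_succ, mul_assoc], hne⟩
  obtain ⟨φ, hφ⟩ := H.loc _ hi
  apply hne
  rw [← pow_two]
  rcases hφ.pow_cases ((Commute.refl g).mul_right (Commute.refl g)) with h' | h' | h'
  · exact h'
  · exact (pow_gcd_eq_one (a := g) (m := 4) (n := 6)).2 ⟨h, h'⟩
  · exact (pow_gcd_eq_one (a := g) (m := 4) (n := 10)).2 ⟨h, h'⟩

theorem sq_of_two_pow (H : Hyp G) (k : ℕ) {g : G} (h : g ^ 2 ^ k = 1) : g * g = 1 := by
  induction k generalizing g with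
  | zero => rw [pow_zero, pow_one] at h; rw [h, one_mul]
  | succ k ih =>
    have h1 : (g ^ 2) ^ 2 ^ k = 1 := by rw [← pow_mul, ← pow_succ', h]
    have h2 := ih h1
    exact H.sq_of_pow_four (by rw [← h2, ← pow_add])

theorem exists_odd [Finite G] (H : Hyp G) (g : G) : ∃ m, Odd m ∧ g ^ m * g ^ m = 1 := by
  obtain ⟨k, m, hm, h⟩ := Nat.exists_eq_two_pow_mul_odd (orderOf_pos g).ne'
  exact ⟨m, hm, H.sq_of_two_pow k (by rw [← pow_mul, mul_comm, ← h, pow_orderOf_eq_one])⟩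

theorem no_swap [Finite G] (H : Hyp G) {u v g : G} (hu : Inv u) (hv : Inv v) (hc : Commute u v)
    (h1 : g * u * g⁻¹ = v) (h2 : g * v * g⁻¹ = u) : u = v := by
  obtain ⟨m, hm, hn⟩ := H.exists_odd g
  have h3 := conj_pow_odd h1 h2 hm
  set n := g ^ m
  have h4 : n * u * (n * u) = v * u := by
    rw [← h3, inv_eq_of_mul_eq_one_right hn]; group
  have h5 : (n * u) ^ 4 = 1 := by
    calc (n * u) ^ 4 = (n * u * (n * u)) * (n * u * (n * u)) := by simp only [pow_succ]; group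
      _ = v * (u * v) * u := by rw [h4]; group
      _ = (v * v) * (u * u) := by rw [hc.eq]; group
      _ = 1 := by rw [hu.1, hv.1, one_mul]
  have h6 := H.sq_of_pow_four h5
  rw [h4] at h6
  rw [← hv.inv_eq]
  exact eq_inv_of_mul_eq_one_right h6

/-- no square inverts an element of odd order -/
theorem not_sq_inverts [Finite G] (H : Hyp G) {n x : G} (h : n * n * x * (n * n)⁻¹ = x⁻¹) :
    x⁻¹ = x := by
  obtain ⟨m, hm, hn⟩ := H.exists_odd n
  have h3 := conj_pow_odd h (conj_inv_of_inverts h) hm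
  rw [(Commute.refl n).mul_pow, hn] at h3
  simpa using h3.symm

theorem inF_antisymm [Finite G] (H : Hyp G) {u v : G} (hu : Inv u) (hv : Inv v)
    (hc : Commute u v) (hne : u ≠ v) : InF u v ↔ ¬ InF v u := by
  obtain ⟨g, hg⟩ := H.conj v u hv hu
  obtain ⟨φ, hφ⟩ := H.loc u hu
  have h1 : InF v u ↔ InF u (g * u * g⁻¹) := by rw [← inF_conj_iff g, hg]
  have hc' : Commute (g * u * g⁻¹) u := by
    have := commute_conj hc g
    rwa [hg] at this
  have hne' : g * u * g⁻¹ ≠ u := fun h => hne (by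
    have h' : g * u * g⁻¹ = g * v * g⁻¹ := h.trans hg.symm
    simpa using h')
  have key : ¬ (InF u (g * u * g⁻¹) ↔ InF u v) := by
    intro hF
    obtain ⟨h, hh, hh'⟩ := hφ.conj_inv (hu.conj g) hv hc' hc.symm hne' hne.symm hF
    refine hne (H.no_swap (g := h * g) hu hv hc ?_ ?_)
    · rw [← hh']; group
    · calc h * g * v * (h * g)⁻¹ = h * (g * v * g⁻¹) * h⁻¹ := by group
        _ = u := by rw [hg, conj_eq_of_commute hh]
  rw [h1]
  tauto

end Hyp

/-- an element of order `p` centralised by an involution -/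
def XP (p : ℕ) (x : G) : Prop := x ≠ 1 ∧ x ^ p = 1 ∧ ∃ t : G, Inv t ∧ Commute x t

theorem conj_ne_one {x : G} (h : x ≠ 1) (g : G) : g * x * g⁻¹ ≠ 1 := fun h' => h (by
  calc x = g⁻¹ * (g * x * g⁻¹) * g := by group
    _ = 1 := by rw [h']; group)

theorem XP.conj {p : ℕ} {x : G} (h : XP p x) (g : G) : XP p (g * x * g⁻¹) := by
  obtain ⟨h1, h2, t, ht, hc⟩ := h
  exact ⟨conj_ne_one h1 g, by rw [conj_pow, h2]; group, _, ht.conj g, commute_conj hc g⟩

theorem XP.inv {p : ℕ} {x : G} (h : XP p x) : XP p x⁻¹ := by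
  obtain ⟨h1, h2, t, ht, hc⟩ := h
  exact ⟨inv_ne_one.2 h1, by rw [inv_pow, h2, inv_one], t, ht, hc.inv_left⟩

theorem odd_of_35 {p : ℕ} (hp : p = 3 ∨ p = 5) : Odd p := by rcases hp with rfl | rfl <;> decide

theorem prime_of_35 {p : ℕ} (hp : p = 3 ∨ p = 5) : p.Prime := by
  rcases hp with rfl | rfl <;> decide

theorem odd_orderOf_of_pow {x : G} {n : ℕ} (hn : Odd n) (h : x ^ n = 1) : Odd (orderOf x) :=
  hn.of_dvd_nat (orderOf_dvd_of_pow_eq_one h)

/-- The elements of odd order in the centraliser of `x`. -/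
def K (x : G) : Subgroup G := closure {g | Commute g x ∧ Odd (orderOf g)}

theorem Hyp.card_centralizer [Finite G] (H : Hyp G) {p : ℕ} (hp : p = 3 ∨ p = 5) {x : G}
    (hx : XP p x) : ∃ m, Odd m ∧ Nat.card (centralizer ({x} : Set G)) = 2 * m := by
  have : Fact (Nat.Prime 2) := ⟨Nat.prime_two⟩
  obtain ⟨hx1, hxp, t, ht, hxt⟩ := hx
  obtain ⟨φ, hφ⟩ := H.loc t ht
  set C := centralizer ({x} : Set G) with hC
  have htC : t ∈ C := mem_centralizer_singleton_iff.2 hxt.symm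
  have h2 : 2 ∣ Nat.card C := by
    have := orderOf_dvd_natCard C htC
    rwa [inv_iff_orderOf.1 ht] at this
  obtain ⟨m, hm⟩ := h2
  refine ⟨m, ?_, hm⟩
  by_contra hodd
  rw [Nat.not_odd_iff_even, even_iff_two_dvd] at hodd
  have h4 : 2 ^ 2 ∣ Nat.card C := by
    obtain ⟨k, rfl⟩ := hodd
    rw [hm]; exact ⟨k, by ring⟩
  obtain ⟨T, hT⟩ := CL.Invol.exists_sylow_mem (G := C) (t := ⟨t, htC⟩) (Subtype.ext ht.1)
  have h5 := T.pow_dvd_card_of_pow_dvd_card h4
  have hsq : ∀ v ∈ (T : Subgroup C), (v : G) * v = 1 := fun v hv => by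
    obtain ⟨k, hk⟩ := T.isPGroup' ⟨v, hv⟩
    exact H.sq_of_two_pow k (congrArg (fun y : (T : Subgroup C) => ((y : C) : G)) hk)
  have hall : ∀ v ∈ (T : Subgroup C), v = 1 ∨ v = ⟨t, htC⟩ := by
    intro v hv
    have e1 := hsq v hv
    have e2 := hsq _ ((T : Subgroup C).mul_mem hv hT)
    have hvt : Commute (v : G) t := by
      have e3 : (v : G) * t * (v * t) = 1 := e2
      show (v : G) * t = t * v
      rw [← inv_eq_of_mul_eq_one_right e3, mul_inv_rev, ht.inv_eq, inv_eq_of_mul_eq_one_right e1]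
    have hvx : Commute (v : G) x := mem_centralizer_singleton_iff.1 v.2
    have aux : ∀ y ∈ zpowers x, y * y = 1 → y = 1 := fun y hy h =>
      eq_one_of_odd (odd_of_35 hp) (pow_eq_one_of_mem_zpowers hxp hy)
        (inv_eq_of_mul_eq_one_right h)
    rcases hφ.cent_odd hxt hx1 (odd_of_35 hp) hxp hvt hvx with h | h
    · exact Or.inl (Subtype.ext (aux _ h e1))
    · right
      have := aux _ h (by
        calc t * v * (t * v) = t * ((v : G) * t) * v := by group
          _ = (t * t) * (v * v) := by rw [hvt.eq]; group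
          _ = 1 := by rw [ht.1, e1, one_mul])
      apply Subtype.ext
      show (v : G) = t
      rw [← ht.inv_eq]; exact eq_inv_of_mul_eq_one_right this
  have h6 : ((T : Subgroup C) : Set C).ncard ≤ ({1, ⟨t, htC⟩} : Set C).ncard :=
    Set.ncard_le_ncard (fun v hv => hall v hv) (Set.toFinite _)
  have h7 : ({1, ⟨t, htC⟩} : Set C).ncard ≤ 2 :=
    (Set.ncard_insert_le _ _).trans (by rw [Set.ncard_singleton])
  have h8 : ((T : Subgroup C) : Set C).ncard = Nat.card (T : Subgroup C) := rfl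
  have h9 := Nat.le_of_dvd Nat.card_pos h5
  omega

theorem Hyp.exists_K [Finite G] (H : Hyp G) {p : ℕ} (hp : p = 3 ∨ p = 5) {x : G}
    (hx : XP p x) : ∃ K0 : Subgroup G, (∀ g, g ∈ K0 ↔ Commute g x ∧ Odd (orderOf g)) ∧
      ∀ g h : G, Commute g x → Commute h x → g ∉ K0 → h ∉ K0 → g * h ∈ K0 := by
  obtain ⟨m, hm, hC⟩ := H.card_centralizer hp hx
  set C := centralizer ({x} : Set G)
  obtain ⟨L, hL⟩ := CL.BF.exists_index_two_of_two_mul_odd hm hC
  have hLm : Nat.card L = m := by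
    have := L.card_mul_index
    rw [hL, hC] at this
    omega
  have key : ∀ g : C, g ∈ L ↔ Odd (orderOf (g : G)) := by
    intro g
    rw [orderOf_coe]
    constructor
    · intro hg
      exact hm.of_dvd_nat (hLm ▸ orderOf_dvd_natCard L hg)
    · intro hg
      obtain ⟨k, hk⟩ := hg
      have h1 : g ^ (2 * k + 1) ∈ L := by rw [← hk, pow_orderOf_eq_one]; exact L.one_mem
      rw [pow_succ, pow_mul] at h1
      exact (L.mul_mem_cancel_left (L.pow_mem (sq_mem_of_index_two hL g) k)).1 h1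
  have hmem : ∀ g (hg : g ∈ C), g ∈ L.map C.subtype ↔ (⟨g, hg⟩ : C) ∈ L := fun g hg =>
    mem_map_iff_mem (f := C.subtype) C.subtype_injective (x := ⟨g, hg⟩)
  refine ⟨L.map C.subtype, fun g => ⟨?_, ?_⟩, fun g h hg hh hg' hh' => ?_⟩
  · rintro ⟨g, hg, rfl⟩
    exact ⟨mem_centralizer_singleton_iff.1 g.2, (key g).1 hg⟩
  · rintro ⟨h1, h2⟩
    exact (hmem g (mem_centralizer_singleton_iff.2 h1)).2 ((key _).2 h2)
  · have hgC : g ∈ C := mem_centralizer_singleton_iff.2 hg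
    have hhC : h ∈ C := mem_centralizer_singleton_iff.2 hh
    rw [hmem _ hgC] at hg'
    rw [hmem _ hhC] at hh'
    rw [hmem _ (C.mul_mem hgC hhC)]
    exact (mul_mem_iff_of_index_two hL (a := ⟨g, hgC⟩) (b := ⟨h, hhC⟩)).2 (iff_of_false hg' hh')

theorem Hyp.mem_K [Finite G] (H : Hyp G) {p : ℕ} (hp : p = 3 ∨ p = 5) {x : G}
    (hx : XP p x) {g : G} : g ∈ K x ↔ Commute g x ∧ Odd (orderOf g) := by
  obtain ⟨K0, h, -⟩ := H.exists_K hp hx
  have : K x = K0 := by
    rw [K, ← closure_eq K0]; congr 1; ext g; exact (h g).symm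
  rw [this, h]

theorem Hyp.mul_mem_K [Finite G] (H : Hyp G) {p : ℕ} (hp : p = 3 ∨ p = 5) {x : G}
    (hx : XP p x) {g h : G} (hg : Commute g x) (hh : Commute h x) (hg' : g ∉ K x)
    (hh' : h ∉ K x) : g * h ∈ K x := by
  obtain ⟨K0, h1, h2⟩ := H.exists_K hp hx
  rw [H.mem_K hp hx, ← h1] at hg' hh' ⊢
  exact h2 g h hg hh hg' hh'

end CL.J1C
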