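import Cfsg.Agent.Base
import Cfsg.Agent.J1.Hyp
import Cfsg.Agent.Solv.ConjSub
import Cfsg.Agent.Invol.Dihedral

/-!
# Groups of type `J₁`: the normal `2`-complement `K x` is abelian

`Tri p x t s`: `x` has order `p ∈ {3,5}`, the involution `t` centralises `x`, the involution `s`
commutes with `t` and inverts `x`.  The four-group `⟨t, s⟩` acts on `K x`.
-/

set_option autoImplicit false

open Subgroup
open scoped Pointwise

namespace CL.J1C

variable {G : Type*} [Group G]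

/-- An element of order `p` with a four-group normalising it. -/
structure Tri (p : ℕ) (x t s : G) : Prop where
  hp : p = 3 ∨ p = 5
  x1 : x ≠ 1
  xp : x ^ p = 1
  ht : Inv t
  hs : Inv s
  xt : Commute x t
  st : Commute s t
  inv : s * x * s⁻¹ = x⁻¹

theorem K_eq_of_mem_zpowers {p : ℕ} (hp : p = 3 ∨ p = 5) {x y : G} (hx : x ^ p = 1)
    (hy : y ∈ zpowers x) (hy1 : y ≠ 1) : K y = K x := by
  have h := mem_zpowers_symm (prime_of_35 hp) hx hy hy1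
  unfold K
  congr 1
  ext g
  exact and_congr_left' ⟨fun hg => commute_of_mem_zpowers hg h,
    fun hg => commute_of_mem_zpowers hg hy⟩

theorem pow_conj_eq {k a c : G} (h : k * a * k⁻¹ = c * a) (hc : Commute k c) (n : ℕ) :
    k ^ n * a * (k ^ n)⁻¹ = c ^ n * a := by
  induction n with
  | zero => simp
  | succ n ih =>
    calc k ^ (n + 1) * a * (k ^ (n + 1))⁻¹ = k * (k ^ n * a * (k ^ n)⁻¹) * k⁻¹ := by
          rw [pow_succ']; group
      _ = (k * c ^ n * k⁻¹) * (k * a * k⁻¹) := by rw [ih]; group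
      _ = c ^ (n + 1) * a := by rw [conj_eq_of_commute (hc.pow_right n), h, pow_succ, mul_assoc]

namespace Tri

variable {p : ℕ} {x t s : G}

theorem xP (h : Tri p x t s) : XP p x := ⟨h.x1, h.xp, t, h.ht, h.xt⟩

theorem odd (h : Tri p x t s) : Odd p := odd_of_35 h.hp

theorem not_comm (h : Tri p x t s) : ¬ Commute s x := fun hc =>
  h.x1 (eq_one_of_odd h.odd h.xp (h.inv.symm.trans (conj_eq_of_commute hc)))

theorem ne (h : Tri p x t s) : s ≠ t := fun e => h.not_comm (e ▸ h.xt.symm)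

theorem swap (h : Tri p x t s) : Tri p x t (t * s) where
  hp := h.hp
  x1 := h.x1
  xp := h.xp
  ht := h.ht
  hs := h.ht.mul h.hs h.st.symm h.ne.symm
  xt := h.xt
  st := (Commute.refl t).mul_left h.st
  inv := by
    calc t * s * x * (t * s)⁻¹ = t * (s * x * s⁻¹) * t⁻¹ := by group
      _ = x⁻¹ := by rw [h.inv, conj_eq_of_commute h.xt.symm.inv_right]

end Tri

namespace Hyp

variable [Finite G] (H : Hyp G) {p : ℕ}
include H

omit [Finite G] in
theorem exists_tri (hp : p = 3 ∨ p = 5) {x t : G} (hx1 : x ≠ 1) (hxp : x ^ p = 1) (ht : Inv t)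
    (hxt : Commute x t) : ∃ s, Tri p x t s := by
  obtain ⟨φ, hφ⟩ := H.loc t ht
  obtain ⟨s, h1, h2, h3⟩ := hφ.exists_inverting hxt
  refine ⟨s, hp, hx1, hxp, ht, ⟨h1, ?_⟩, hxt, h2, h3⟩
  rintro rfl
  exact hx1 (eq_one_of_odd (odd_of_35 hp) hxp (by simpa using h3.symm))

theorem self_mem_K (hp : p = 3 ∨ p = 5) {x : G} (hx : XP p x) : x ∈ K x :=
  (H.mem_K hp hx).2 ⟨Commute.refl x, odd_orderOf_of_pow (odd_of_35 hp) hx.2.1⟩

theorem zpowers_le_K (hp : p = 3 ∨ p = 5) {x : G} (hx : XP p x) : zpowers x ≤ K x :=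
  zpowers_le.2 (H.self_mem_K hp hx)

theorem not_mem_K (hp : p = 3 ∨ p = 5) {x : G} (hx : XP p x) {t : G} (ht : Inv t) :
    t ∉ K x := fun h => by
  have := ((H.mem_K hp hx).1 h).2
  rw [inv_iff_orderOf.1 ht] at this
  exact absurd this (by decide)

theorem conj_mem_K (hp : p = 3 ∨ p = 5) {x : G} (hx : XP p x) {k : G} (hk : k ∈ K x) (g : G) :
    g * k * g⁻¹ ∈ K (g * x * g⁻¹) := by
  rw [H.mem_K hp hx] at hk
  rw [H.mem_K hp (hx.conj g)]
  refine ⟨commute_conj hk.1 g, ?_⟩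
  have : orderOf (g * k * g⁻¹) = orderOf k := (MulAut.conj g).orderOf_eq k
  rw [this]; exact hk.2

theorem conj_mem_K_of_mem (hp : p = 3 ∨ p = 5) {x : G} (hx : XP p x) {k : G} (hk : k ∈ K x)
    {g : G} (hg : g * x * g⁻¹ ∈ zpowers x) : g * k * g⁻¹ ∈ K x := by
  rw [← K_eq_of_mem_zpowers hp hx.2.1 hg (conj_ne_one hx.1 g)]
  exact H.conj_mem_K hp hx hk g

theorem conj_mem_K_of_commute (hp : p = 3 ∨ p = 5) {x : G} (hx : XP p x) {k : G} (hk : k ∈ K x)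
    {g : G} (hg : Commute g x) : g * k * g⁻¹ ∈ K x :=
  H.conj_mem_K_of_mem hp hx hk (by rw [conj_eq_of_commute hg]; exact mem_zpowers x)

theorem conj_mem_K_of_inverts (hp : p = 3 ∨ p = 5) {x : G} (hx : XP p x) {k : G} (hk : k ∈ K x)
    {g : G} (hg : g * x * g⁻¹ = x⁻¹) : g * k * g⁻¹ ∈ K x :=
  H.conj_mem_K_of_mem hp hx hk (by rw [hg]; exact inv_mem (mem_zpowers x))

omit [Finite G] in
theorem pair_conj (hp : p = 3 ∨ p = 5) {x y t u : G} (hx1 : x ≠ 1) (hxp : x ^ p = 1)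
    (ht : Inv t) (hxt : Commute x t) (hy1 : y ≠ 1) (hyp : y ^ p = 1) (hu : Inv u)
    (hyu : Commute y u) : ∃ g : G, g * t * g⁻¹ = u ∧ g * x * g⁻¹ ∈ zpowers y := by
  obtain ⟨g, hg⟩ := H.conj t u ht hu
  obtain ⟨φ, hφ⟩ := H.loc u hu
  have h1 : Commute (g * x * g⁻¹) u := hg ▸ commute_conj hxt g
  obtain ⟨h, hh, hh'⟩ := hφ.conj_odd hp h1 hyu (conj_ne_one hx1 g) hy1
    (by rw [conj_pow, hxp]; group) hyp
  refine ⟨h * g, ?_, ?_⟩
  · calc h * g * t * (h * g)⁻¹ = h * (g * t * g⁻¹) * h⁻¹ := by group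
      _ = u := by rw [hg, conj_eq_of_commute hh]
  · have : h * g * x * (h * g)⁻¹ = h * (g * x * g⁻¹) * h⁻¹ := by group
    rw [this]; exact hh'

theorem exists_conj_K (hp : p = 3 ∨ p = 5) {x y : G} (hx : XP p x) (hy : XP p y) :
    ∃ g : G, g * x * g⁻¹ ∈ zpowers y ∧ K y = MulAut.conj g • K x := by
  obtain ⟨t, ht, hxt⟩ := hx.2.2
  obtain ⟨u, hu, hyu⟩ := hy.2.2
  obtain ⟨g, -, hg⟩ := H.pair_conj hp hx.1 hx.2.1 ht hxt hy.1 hy.2.1 hu hyu
  refine ⟨g, hg, ?_⟩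
  rw [← K_eq_of_mem_zpowers hp hy.2.1 hg (conj_ne_one hx.1 g)]
  ext k
  rw [Cj.mem_conj_iff]
  constructor
  · intro hk
    have := H.conj_mem_K hp (hx.conj g) hk g⁻¹
    simpa [mul_assoc] using this
  · intro hk
    have := H.conj_mem_K hp hx hk g
    simpa [mul_assoc] using this

theorem K_eq_of_le (hp : p = 3 ∨ p = 5) {x y : G} (hx : XP p x) (hy : XP p y) (h : K x ≤ K y) :
    K x = K y := by
  obtain ⟨g, -, hg⟩ := H.exists_conj_K hp hx hy
  exact eq_of_le_of_card_ge h (by rw [hg, Cj.card_conj])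

theorem mem_zpowers_of_K (hp : p = 3 ∨ p = 5) {x t : G} (hx1 : x ≠ 1) (hxp : x ^ p = 1)
    (ht : Inv t) (hxt : Commute x t) {k : G} (hk : k ∈ K x) (hkt : Commute k t) :
    k ∈ zpowers x := by
  obtain ⟨φ, hφ⟩ := H.loc t ht
  rw [H.mem_K hp ⟨hx1, hxp, t, ht, hxt⟩] at hk
  exact hφ.mem_zpowers_of_odd hxt hx1 (odd_of_35 hp) hxp hkt hk.1 hk.2 (pow_orderOf_eq_one k)

theorem split_K (hp : p = 3 ∨ p = 5) {x : G} (hx : XP p x) {u k : G} (hu : u * u = 1)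
    (hux : u * x * u⁻¹ ∈ zpowers x) (hk : k ∈ K x) :
    ∃ h ∈ zpowers (k⁻¹ * (u * k * u⁻¹)), h ∈ K x ∧ u * h * u⁻¹ = h⁻¹ ∧ Commute (k * h) u := by
  have hj : k⁻¹ * (u * k * u⁻¹) ∈ K x :=
    mul_mem (inv_mem hk) (H.conj_mem_K_of_mem hp hx hk hux)
  obtain ⟨h, h1, h2, h3⟩ := exists_split hu ((H.mem_K hp hx).1 hj).2
  exact ⟨h, h1, zpowers_le.2 hj h1, h2, h3⟩

variable {x t s : G}

theorem split_t (T : Tri p x t s) {k : G} (hk : k ∈ K x) :
    ∃ h ∈ zpowers (k⁻¹ * (t * k * t⁻¹)), h ∈ K x ∧ t * h * t⁻¹ = h⁻¹ ∧ k * h ∈ zpowers x := by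
  obtain ⟨h, h1, h2, h3, h4⟩ := H.split_K T.hp T.xP T.ht.1
    (by rw [conj_eq_of_commute T.xt.symm]; exact mem_zpowers x) hk
  exact ⟨h, h1, h2, h3, H.mem_zpowers_of_K T.hp T.x1 T.xp T.ht T.xt (mul_mem hk h2) h4⟩

theorem inverted (T : Tri p x t s) {k : G} (hk : k ∈ K x) (hks : Commute k s) :
    t * k * t⁻¹ = k⁻¹ := by
  obtain ⟨h, h1, -, h3, h4⟩ := H.split_t T hk
  have hsh : Commute s h := commute_of_mem_zpowers
    (hks.symm.inv_right.mul_right ((T.st.mul_right hks.symm).mul_right T.st.inv_right)) h1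
  have h5 := inverts_of_mem_zpowers T.inv h4
  rw [conj_eq_of_commute (hks.symm.mul_right hsh)] at h5
  have h6 := eq_one_of_odd T.odd (pow_eq_one_of_mem_zpowers T.xp h4) h5.symm
  have h7 : k = h⁻¹ := eq_inv_of_mul_eq_one_left h6
  rw [h7, conj_inv_of_inverts h3, inv_inv]

theorem commute_of_zpowers (hp : p = 3 ∨ p = 5) (hx : XP p x) {k c : G} (hk : k ∈ K x)
    (hc : c ∈ zpowers x) : Commute k c :=
  commute_of_mem_zpowers ((H.mem_K hp hx).1 hk).1 hc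

theorem decomp (T : Tri p x t s) {k : G} (hk : k ∈ K x) :
    ∃ c1 c c2 : G, c1 ∈ K x ∧ Commute c1 s ∧ c ∈ zpowers x ∧ c2 ∈ K x ∧ Commute c2 (t * s) ∧
      k = c1 * c * c2 := by
  obtain ⟨h, -, h2, h3, h4⟩ := H.split_K T.hp T.xP T.hs.1
    (by rw [T.inv]; exact inv_mem (mem_zpowers x)) hk
  obtain ⟨i, -, i2, i3, i4⟩ := H.split_t T (inv_mem h2)
  refine ⟨k * h, h⁻¹ * i, i⁻¹, mul_mem hk h2, h4, i4, inv_mem i2, ?_, by group⟩
  have e1 := inverts_of_mem_zpowers T.inv i4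
  have e2 := H.commute_of_zpowers T.hp T.xP h2 i4
  have e3 : s * i * s⁻¹ = i⁻¹ := by
    calc s * i * s⁻¹ = (s * h * s⁻¹) * (s * (h⁻¹ * i) * s⁻¹) := by group
      _ = h⁻¹ * (h⁻¹ * i)⁻¹ := by rw [h3, e1]
      _ = (h * (h⁻¹ * i))⁻¹ := by rw [e2.eq, mul_inv_rev (h⁻¹ * i) h]
      _ = i⁻¹ := by group
  refine (commute_of_conj_eq ?_).symm
  calc t * s * i⁻¹ * (t * s)⁻¹ = t * (s * i⁻¹ * s⁻¹) * t⁻¹ := by group
    _ = i⁻¹ := by rw [conj_inv_of_inverts e3, i3]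

theorem comm_mod (T : Tri p x t s) {k l : G} (hk : k ∈ K x) (hl : l ∈ K x) :
    ∃ c ∈ zpowers x, k * l * k⁻¹ = c * l := by
  obtain ⟨i, -, i2, i3, i4⟩ := H.split_t T hk
  obtain ⟨j, -, j2, j3, j4⟩ := H.split_t T hl
  obtain ⟨m, -, m2, m3, m4⟩ := H.split_t T (mul_mem j2 i2)
  have hc := fun a (ha : a ∈ K x) c (hc : c ∈ zpowers x) =>
    (H.commute_of_zpowers T.hp T.xP ha hc).eq
  set a := k * i with ha
  set b := l * j with hb
  set c := j * i * m with hc'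
  have e1 : t * c * t⁻¹ = c :=
    conj_eq_of_commute (commute_of_mem_zpowers T.xt.symm m4)
  have e2 : j⁻¹ * i⁻¹ * m⁻¹ = c := by
    rw [← e1, hc', ← i3, ← j3, ← m3]; group
  have e4 : i⁻¹ * j⁻¹ = c⁻¹ * m := by
    rw [← hc m m2 _ (inv_mem m4), hc']; group
  have e5 : j⁻¹ * i⁻¹ = c * m := by rw [← e2]; group
  refine ⟨c⁻¹ * c⁻¹, mul_mem (inv_mem m4) (inv_mem m4), ?_⟩
  have hk' : k = a * i⁻¹ := by rw [ha]; group
  have hl' : l = b * j⁻¹ := by rw [hb]; group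
  have e6 : k * l = a * b * (c⁻¹ * m) := by
    rw [hk', hl', ← e4]
    calc a * i⁻¹ * (b * j⁻¹) = a * (i⁻¹ * b) * j⁻¹ := by group
      _ = _ := by rw [hc _ (inv_mem i2) b j4]; group
  have e7 : l * k = a * b * (c * m) := by
    rw [hk', hl', ← e5]
    calc b * j⁻¹ * (a * i⁻¹) = b * (j⁻¹ * a) * i⁻¹ := by group
      _ = (b * a) * j⁻¹ * i⁻¹ := by rw [hc _ (inv_mem j2) a i4]; group
      _ = _ := by rw [hc b (mul_mem hl j2) a i4]; group
  rw [mul_inv_eq_iff_eq_mul, mul_assoc _ l k, e6, e7]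
  have e8 := hc (a * b) (mul_mem (mul_mem hk i2) (mul_mem hl j2)) _
    (mul_mem (inv_mem m4) (inv_mem m4))
  calc a * b * (c⁻¹ * m) = a * b * (c⁻¹ * c⁻¹) * (c * m) := by group
    _ = _ := by rw [e8]; group

theorem commute_of_s (T : Tri p x t s) {a b : G} (ha : a ∈ K x) (has : Commute a s)
    (hb : b ∈ K x) (hbs : Commute b s) : Commute a b := by
  have e1 := H.inverted T ha has
  have e2 := H.inverted T hb hbs
  have e3 := H.inverted T (mul_mem ha hb) (has.mul_left hbs)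
  have : a⁻¹ * b⁻¹ = b⁻¹ * a⁻¹ := by
    rw [← mul_inv_rev a b, ← e3, ← e1, ← e2]; group
  exact Commute.inv_inv_iff.1 this

theorem mem_zpowers_of_s (T : Tri p x t s) {a b : G} (ha : a ∈ K x) (has : Commute a s)
    (ha1 : a ≠ 1) (hb : b ∈ K x) (hbs : Commute b s) : b ∈ zpowers a := by
  obtain ⟨φ, hφ⟩ := H.loc s T.hs
  exact hφ.mem_zpowers_of_odd has ha1 ((H.mem_K T.hp T.xP).1 ha).2 (pow_orderOf_eq_one a) hbs
    (H.commute_of_s T hb hbs ha has) ((H.mem_K T.hp T.xP).1 hb).2 (pow_orderOf_eq_one b)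

theorem odd_cases (hp : p = 3 ∨ p = 5) (hx : XP p x) {a u : G} (ha : a ∈ K x) (hu : Inv u)
    (hau : Commute a u) : a ^ 3 = 1 ∨ a ^ 5 = 1 := by
  obtain ⟨φ, hφ⟩ := H.loc u hu
  exact hφ.odd_cases hau ((H.mem_K hp hx).1 ha).2 (pow_orderOf_eq_one a)

theorem exists_not_commute (T : Tri p x t s) (h : ¬ ∀ a ∈ K x, ∀ b ∈ K x, Commute a b) :
    ∃ y1 y2 : G, y1 ∈ K x ∧ Commute y1 s ∧ y2 ∈ K x ∧ Commute y2 (t * s) ∧ ¬ Commute y1 y2 := by
  by_contra hcon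
  push Not at hcon
  apply h
  intro a ha b hb
  obtain ⟨a1, a0, a2, h1, h2, h3, h4, h5, rfl⟩ := H.decomp T ha
  obtain ⟨b1, b0, b2, k1, k2, k3, k4, k5, rfl⟩ := H.decomp T hb
  have hz := fun a (ha : a ∈ K x) c (hc : c ∈ zpowers x) => H.commute_of_zpowers T.hp T.xP ha hc
  refine Commute.mul_left (Commute.mul_left ?_ (hz _ hb _ h3).symm) ?_
  · exact ((H.commute_of_s T h1 h2 k1 k2).mul_right (hz _ h1 _ k3)).mul_right
      (hcon _ _ h1 h2 k4 k5)
  · exact ((hcon _ _ k1 k2 h4 h5).symm.mul_right (hz _ h4 _ k3)).mul_right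
      (H.commute_of_s T.swap h4 h5 k4 k5)

theorem mem_zpowers_of_central (T : Tri p x t s) (h : ¬ ∀ a ∈ K x, ∀ b ∈ K x, Commute a b)
    {k : G} (hk : k ∈ K x) (hc : ∀ a ∈ K x, Commute a k) : k ∈ zpowers x := by
  obtain ⟨y1, y2, h1, h2, h3, h4, hn⟩ := H.exists_not_commute T h
  obtain ⟨c1, c, c2, k1, k2, k3, k4, k5, rfl⟩ := H.decomp T hk
  have hz := fun a (ha : a ∈ K x) c (hc : c ∈ zpowers x) => H.commute_of_zpowers T.hp T.xP ha hc
  have e2 : c2 = 1 := by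
    by_contra hne
    have e : c2 = (c1 * c)⁻¹ * (c1 * c * c2) := by group
    have : Commute y1 c2 := by
      rw [e]
      exact ((H.commute_of_s T h1 h2 k1 k2).mul_right (hz _ h1 _ k3)).inv_right.mul_right
        (hc _ h1)
    exact hn (commute_of_mem_zpowers this (H.mem_zpowers_of_s T.swap k4 k5 hne h3 h4))
  have e1 : c1 = 1 := by
    by_contra hne
    have e : c1 = (c1 * c * c2) * (c * c2)⁻¹ := by group
    have : Commute y2 c1 := by
      rw [e]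
      exact (hc _ h3).mul_right
        ((hz _ h3 _ k3).mul_right (H.commute_of_s T.swap h3 h4 k4 k5)).inv_right
    exact hn (commute_of_mem_zpowers this (H.mem_zpowers_of_s T k1 k2 hne h1 h2)).symm
  rw [e1, e2, one_mul, mul_one]; exact k3

/-- `K x` is abelian. -/
theorem ab (hp : p = 3 ∨ p = 5) (hx : XP p x) : ∀ a ∈ K x, ∀ b ∈ K x, Commute a b := by
  by_contra h
  obtain ⟨t, ht, hxt⟩ := hx.2.2
  obtain ⟨s, T⟩ := H.exists_tri hp hx.1 hx.2.1 ht hxt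
  obtain ⟨y1, y2, h1, h2, h3, -, hn⟩ := H.exists_not_commute T h
  obtain ⟨c, hc, e⟩ := H.comm_mod T h3 h1
  have hc1 : c ≠ 1 := by
    rintro rfl
    rw [one_mul] at e
    exact hn (commute_of_conj_eq e).symm
  have hcp := pow_eq_one_of_mem_zpowers hx.2.1 hc
  have hy1 : y1 ≠ 1 := by rintro rfl; exact hn (Commute.one_left _)
  have hcy : Commute y1 c := H.commute_of_zpowers hp hx h1 hc
  have key : ∀ n, y1 ^ n = 1 → c ^ n = 1 := fun n hn => by
    have : (c * y1) ^ n = 1 := by rw [← e, conj_pow, hn]; group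
    rwa [hcy.symm.mul_pow, hn, mul_one] at this
  have hyp : y1 ^ p = 1 := by
    rcases H.odd_cases hp hx h1 T.hs h2 with h' | h' <;> rcases hp with rfl | rfl
    · exact h'
    · exact absurd (eq_one_of_pow_of_coprime (key _ h') hcp (by decide)) hc1
    · exact absurd (eq_one_of_pow_of_coprime (key _ h') hcp (by decide)) hc1
    · exact h'
  have hy : XP p y1 := ⟨hy1, hyp, s, T.hs, h2⟩
  have hxy : Commute y1 x := ((H.mem_K hp hx).1 h1).1
  have hxK : x ∈ K y1 := (H.mem_K hp hy).2 ⟨hxy.symm, odd_orderOf_of_pow T.odd hx.2.1⟩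
  have h' : ¬ ∀ a ∈ K y1, ∀ b ∈ K y1, Commute a b := by
    intro hab
    obtain ⟨g, -, hg⟩ := H.exists_conj_K hp hx hy
    apply h
    intro a ha b hb
    have := commute_conj (hab _ (hg ▸ Cj.conj_mem_conj g ha) _ (hg ▸ Cj.conj_mem_conj g hb)) g⁻¹
    simpa [mul_assoc] using this
  obtain ⟨s', T'⟩ := H.exists_tri hp hy1 hyp T.hs h2
  obtain ⟨k', hk', hk'x⟩ : ∃ k' ∈ K y1, ¬ Commute k' x := by
    by_contra hcon
    push Not at hcon
    exact T.not_comm (commute_of_mem_zpowers h2.symm (H.mem_zpowers_of_central T' h' hxK hcon))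
  obtain ⟨c', hc', e'⟩ := H.comm_mod T' hk' hxK
  have hc'1 : c' ≠ 1 := by
    rintro rfl
    rw [one_mul] at e'
    exact hk'x (commute_of_conj_eq e')
  obtain ⟨n, hn1⟩ := (mem_powers_iff_mem_zpowers.2
    (mem_zpowers_symm (prime_of_35 hp) hx.2.1 hc hc1))
  obtain ⟨n', hn2⟩ := (mem_powers_iff_mem_zpowers.2
    (inv_mem (mem_zpowers_symm (prime_of_35 hp) hyp hc' hc'1)))
  simp only at hn1 hn2
  have a1 := pow_conj_eq e (H.commute_of_zpowers hp hx h3 hc) n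
  have a2 := pow_conj_eq e' (H.commute_of_zpowers hp hy hk' hc') n'
  rw [hn1] at a1
  rw [hn2] at a2
  have a3 := conj_eq_of_commute (((H.mem_K hp hx).1 h3).1.pow_left n)
  have a4 := conj_eq_of_commute (((H.mem_K hp hy).1 hk').1.pow_left n')
  set k := y2 ^ n
  set l := k' ^ n'
  have b1 : k * l * k * x * (k * l * k)⁻¹ = y1⁻¹ := by
    calc k * l * k * x * (k * l * k)⁻¹ = k * (l * (k * x * k⁻¹) * l⁻¹) * k⁻¹ := by group
      _ = (k * y1 * k⁻¹)⁻¹ * (k * x * k⁻¹) := by rw [a3, a2]; nth_rw 2 [← a3]; group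
      _ = y1⁻¹ := by rw [a1, a3]; group
  have b2 : k * l * k * y1 * (k * l * k)⁻¹ = x := by
    calc k * l * k * y1 * (k * l * k)⁻¹ = k * (l * (k * y1 * k⁻¹) * l⁻¹) * k⁻¹ := by group
      _ = k * ((l * x * l⁻¹) * (l * y1 * l⁻¹)) * k⁻¹ := by rw [a1]; group
      _ = k * (y1⁻¹ * (x * y1)) * k⁻¹ := by rw [a2, a4]; group
      _ = x := by rw [← hxy.eq, inv_mul_cancel_left, a3]
  set m := k * l * k
  have b3 : m * m * x * (m * m)⁻¹ = x⁻¹ := by
    calc m * m * x * (m * m)⁻¹ = m * (m * x * m⁻¹) * m⁻¹ := by group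
      _ = (m * y1 * m⁻¹)⁻¹ := by rw [b1]; group
      _ = x⁻¹ := by rw [b2]
  exact hx.1 (eq_one_of_odd T.odd hx.2.1 (H.not_sq_inverts b3))

theorem K_eq_of_mem (hp : p = 3 ∨ p = 5) (hx : XP p x) {y : G} (hy : XP p y) (h : y ∈ K x) :
    K y = K x :=
  (H.K_eq_of_le hp hx hy fun a ha =>
    (H.mem_K hp hy).2 ⟨H.ab hp hx a ha y h, ((H.mem_K hp hx).1 ha).2⟩).symm

theorem comm_or_inverts (hp : p = 3 ∨ p = 5) (hx : x ^ p = 1) {n : G}
    (h : n * x * n⁻¹ ∈ zpowers x) : n * x * n⁻¹ = x ∨ n * x * n⁻¹ = x⁻¹ := by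
  by_cases hx1 : x = 1
  · left; rw [hx1]; group
  obtain ⟨k, hk⟩ := mem_powers_iff_mem_zpowers.2 h
  simp only at hk
  rw [pow_eq_pow_mod k hx] at hk
  have h0 : k % p ≠ 0 := fun h0 => by
    rw [h0, pow_zero] at hk
    exact conj_ne_one hx1 n hk.symm
  have key : ∀ j, x ^ j = n * x * n⁻¹ → n * n * x * (n * n)⁻¹ = x ^ (j * j) := fun j hj => by
    calc n * n * x * (n * n)⁻¹ = n * (n * x * n⁻¹) * n⁻¹ := by group
      _ = x ^ (j * j) := by rw [← hj, ← conj_pow, ← hj, ← pow_mul]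
  rcases hp with rfl | rfl
  · have h2 : x ^ 2 = x⁻¹ := eq_inv_of_mul_eq_one_left (by rw [← pow_succ, hx])
    have : k % 3 = 1 ∨ k % 3 = 2 := by omega
    rcases this with e | e <;> rw [e] at hk
    · left; rw [← hk, pow_one]
    · right; rw [← hk, h2]
  · have h4 : x ^ 4 = x⁻¹ := eq_inv_of_mul_eq_one_left (by rw [← pow_succ, hx])
    have : k % 5 = 1 ∨ k % 5 = 2 ∨ k % 5 = 3 ∨ k % 5 = 4 := by omega
    rcases this with e | e | e | e <;> rw [e] at hk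
    · left; rw [← hk, pow_one]
    · exact absurd (eq_one_of_odd (by decide) hx (H.not_sq_inverts ((key _ hk).trans h4))) hx1
    · refine absurd (eq_one_of_odd (by decide) hx (H.not_sq_inverts ((key _ hk).trans ?_))) hx1
      rw [show 3 * 3 = 5 + 4 from rfl, pow_add, hx, one_mul, h4]
    · right; rw [← hk, h4]

omit [Finite G] in
theorem conj_inverting (hp : p = 3 ∨ p = 5) {u y d e : G} (hu : Inv u) (hy1 : y ≠ 1)
    (hyp : y ^ p = 1) (hyu : Commute y u) (hd : d * d = 1) (he : e * e = 1) (hdu : Commute d u)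
    (heu : Commute e u) (hdy : d * y * d⁻¹ = y⁻¹) (hey : e * y * e⁻¹ = y⁻¹) :
    ∃ h ∈ zpowers y, h * d * h⁻¹ = e ∨ h * d * h⁻¹ = u * e := by
  obtain ⟨φ, hφ⟩ := H.loc u hu
  have h1 : Commute (d * e) y := commute_of_conj_eq (by
    calc d * e * y * (d * e)⁻¹ = d * (e * y * e⁻¹) * d⁻¹ := by group
      _ = y := by rw [hey, conj_inv_of_inverts hdy])
  have key : ∀ f : G, f * f = 1 → d * f ∈ zpowers y → ∃ h ∈ zpowers y, h * d * h⁻¹ = f := by
    intro f hf hdf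
    obtain ⟨k, hk⟩ := CL.Invol.exists_pow_conj_of_odd hd hf
      (odd_orderOf_of_pow (odd_of_35 hp) (pow_eq_one_of_mem_zpowers hyp hdf))
    exact ⟨_, pow_mem hdf k, hk⟩
  rcases hφ.cent_odd hyu hy1 (odd_of_35 hp) hyp (hdu.mul_left heu) h1 with h | h
  · obtain ⟨h, h2, h3⟩ := key e he h
    exact ⟨h, h2, Or.inl h3⟩
  · obtain ⟨h, h2, h3⟩ := key (u * e) (by
      calc u * e * (u * e) = u * (e * u) * e := by group
        _ = (u * u) * (e * e) := by rw [heu.eq]; group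
        _ = 1 := by rw [hu.1, he, one_mul]) (by rwa [← mul_assoc, hdu.eq, mul_assoc])
    exact ⟨h, h2, Or.inr h3⟩

end Hyp

end CL.J1C
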