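import Cfsg.Agent.Base
import Cfsg.Agent.J1.Odd

/-!
# Groups of type `J₁`: the order of `K x`

For `x` of order `p ∈ {3,5}` centralised by an involution, `K x` is `⟨x⟩` or cyclic of order `15`.
-/

set_option autoImplicit false

open Subgroup
open scoped Pointwise

namespace CL.J1C

variable {G : Type*} [Group G]

theorem eq_or_eq_inv_of_three [Finite G] {x y : G} (hx : x ^ 3 = 1) (hy : y ∈ zpowers x)
    (hy1 : y ≠ 1) : y = x ∨ y = x⁻¹ := by
  obtain ⟨k, hk⟩ := mem_powers_iff_mem_zpowers.2 hy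
  simp only at hk
  rw [pow_eq_pow_mod k hx] at hk
  have h2 : x ^ 2 = x⁻¹ := eq_inv_of_mul_eq_one_left (by rw [← pow_succ, hx])
  have : k % 3 = 0 ∨ k % 3 = 1 ∨ k % 3 = 2 := by omega
  rcases this with e | e | e <;> rw [e] at hk
  · exact absurd (by rw [← hk, pow_zero]) hy1
  · left; rw [← hk, pow_one]
  · right; rw [← hk, h2]

namespace Hyp

variable [Finite G] (H : Hyp G) {p : ℕ} {x t s : G}
include H

theorem exists_cycle (T : Tri p x t s) {y : G} (hy : y ∈ K x) (hy1 : y ≠ 1) (hyp : y ^ p = 1)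
    (hys : Commute y s) :
    ∃ w : G, w ^ 3 = 1 ∧ w * t * w⁻¹ = s ∧ w * s * w⁻¹ = t * s ∧ ∀ k ∈ K x, w * k * w⁻¹ ∈ K x := by
  have hY : XP p y := ⟨hy1, hyp, s, T.hs, hys⟩
  obtain ⟨g, hgt, hgx⟩ := H.pair_conj T.hp T.x1 T.xp T.ht T.xt hy1 hyp T.hs hys
  have hKy : K y = K x := H.K_eq_of_mem T.hp T.xP hY hy
  set x' := g * x * g⁻¹ with hx'
  have hx'1 : x' ≠ 1 := conj_ne_one T.x1 g
  have hx'K : x' ∈ K x := hKy ▸ H.zpowers_le_K T.hp hY hgx
  have hx's : Commute x' s := (commute_of_mem_zpowers hys.symm hgx).symm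
  have hKx' : K x' = K x := (K_eq_of_mem_zpowers T.hp hyp hgx hx'1).trans hKy
  obtain ⟨h, hh, hh'⟩ := H.conj_inverting T.hp (d := g * s * g⁻¹) (e := t) T.hs hx'1
    (T.xP.conj g).2.1 hx's (T.hs.conj g).1 T.ht.1 (hgt ▸ commute_conj T.st g) T.st.symm
    (by
      calc g * s * g⁻¹ * x' * (g * s * g⁻¹)⁻¹ = g * (s * x * s⁻¹) * g⁻¹ := by rw [hx']; group
        _ = x'⁻¹ := by rw [T.inv, hx']; group)
    (H.inverted T hx'K hx's)
  have hhs : Commute h s := (commute_of_mem_zpowers hx's.symm hh).symm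
  have hhK : h ∈ K x := zpowers_le.2 hx'K hh
  set n := h * g with hn
  have n1 : n * t * n⁻¹ = s := by
    calc n * t * n⁻¹ = h * (g * t * g⁻¹) * h⁻¹ := by rw [hn]; group
      _ = s := by rw [hgt, conj_eq_of_commute hhs]
  have n2' : n * s * n⁻¹ = h * (g * s * g⁻¹) * h⁻¹ := by rw [hn]; group
  have n2 : n * s * n⁻¹ = t * s := by
    rcases hh' with e | e
    · exact absurd (H.no_swap T.ht T.hs T.st.symm n1 (n2'.trans e)) T.ne.symm
    · rw [n2', e, T.st.eq]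
  have n3 : n * (t * s) * n⁻¹ = t := by
    calc n * (t * s) * n⁻¹ = (n * t * n⁻¹) * (n * s * n⁻¹) := by group
      _ = t * (s * s) := by rw [n1, n2, ← mul_assoc, T.st.eq, mul_assoc]
      _ = t := by rw [T.hs.1, mul_one]
  have nK : ∀ k ∈ K x, n * k * n⁻¹ ∈ K x := by
    intro k hk
    have h1 : g * k * g⁻¹ ∈ K x := hKx' ▸ H.conj_mem_K T.hp T.xP hk g
    have : n * k * n⁻¹ = h * (g * k * g⁻¹) * h⁻¹ := by rw [hn]; group
    rw [this]
    exact mul_mem (mul_mem hhK h1) (inv_mem hhK)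
  have c3 : ∀ a : G, n ^ 3 * a * (n ^ 3)⁻¹ = n * (n * (n * a * n⁻¹) * n⁻¹) * n⁻¹ := fun a => by
    simp only [pow_succ, pow_zero]; group
  have c4 : ∀ a : G, n ^ 4 * a * (n ^ 4)⁻¹ = n * (n ^ 3 * a * (n ^ 3)⁻¹) * n⁻¹ := fun a => by
    rw [pow_succ' n 3]; group
  have t3 : n ^ 3 * t * (n ^ 3)⁻¹ = t := by rw [c3, n1, n2, n3]
  have s3 : n ^ 3 * s * (n ^ 3)⁻¹ = s := by rw [c3, n2, n3, n1]
  obtain ⟨φ, hφ⟩ := H.loc t T.ht
  have h6 := hφ.sq_of_comm T.hs T.st T.ne (commute_of_conj_eq t3) (commute_of_conj_eq s3)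
  refine ⟨n ^ 4, ?_, by rw [c4, t3, n1], by rw [c4, s3, n2], fun k hk => ?_⟩
  · rw [← pow_add] at h6
    rw [← pow_mul, show 4 * 3 = (3 + 3) * 2 from rfl, pow_mul, h6, one_pow]
  · rw [c4, c3]
    exact nK _ (nK _ (nK _ (nK _ hk)))

theorem not_XP_mul (hp : p = 3 ∨ p = 5) {a b c t1 t2 : G} (ha : XP p a) (hb : XP p b)
    (hc1 : c ≠ 1) (hcp : c ^ p = 1) (hbK : b ∈ K a) (hcK : c ∈ K a) (h1 : Inv t1) (h2 : Inv t2)
    (h12 : Commute t1 t2) (hne : t1 ≠ t2) (a1 : Commute a t1) (b1 : t1 * b * t1⁻¹ = b⁻¹)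
    (c1 : t1 * c * t1⁻¹ = c⁻¹) (a2 : t2 * a * t2⁻¹ = a⁻¹) (b2 : Commute b t2)
    (c3 : Commute c (t1 * t2)) : ¬ XP p (a * b) := by
  intro hk
  have hodd := odd_of_35 hp
  have hu : Inv (t1 * t2) := h1.mul h2 h12 hne
  set u := t1 * t2 with hud
  have hc : XP p c := ⟨hc1, hcp, u, hu, c3⟩
  have haK := H.self_mem_K hp ha
  have hab : Commute a b := H.ab hp ha _ haK _ hbK
  set k := a * b with hkd
  have hkK : k ∈ K a := mul_mem haK hbK
  have e1 : K k = K a := H.K_eq_of_mem hp ha hk hkK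
  have e2 : K c = K a := H.K_eq_of_mem hp ha hc hcK
  have k1 : t1 * k * t1⁻¹ = a * b⁻¹ := by
    calc t1 * k * t1⁻¹ = (t1 * a * t1⁻¹) * (t1 * b * t1⁻¹) := by rw [hkd]; group
      _ = _ := by rw [conj_eq_of_commute a1.symm, b1]
  have k2 : t2 * k * t2⁻¹ = a⁻¹ * b := by
    calc t2 * k * t2⁻¹ = (t2 * a * t2⁻¹) * (t2 * b * t2⁻¹) := by rw [hkd]; group
      _ = _ := by rw [conj_eq_of_commute b2.symm, a2]
  have k3 : u * k * u⁻¹ = k⁻¹ := by
    calc u * k * u⁻¹ = t1 * (t2 * k * t2⁻¹) * t1⁻¹ := by rw [hud]; group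
      _ = (t1 * a * t1⁻¹)⁻¹ * (t1 * b * t1⁻¹) := by rw [k2]; group
      _ = k⁻¹ := by
        rw [conj_eq_of_commute a1.symm, b1, hkd, mul_inv_rev, hab.inv_inv.eq]
  obtain ⟨r, hr, hkr⟩ := hk.2.2
  have hj : r⁻¹ * (u * r * u⁻¹) ∈ K k := by
    refine H.mul_mem_K hp hk hkr.symm.inv_left ?_ (by rw [hr.inv_eq]; exact H.not_mem_K hp hk hr)
      (H.not_mem_K hp hk (hr.conj u))
    have := commute_conj hkr.symm u
    rw [k3] at this
    exact Commute.inv_right_iff.1 this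
  obtain ⟨h, hh, -, hru⟩ := exists_split hu.1 ((H.mem_K hp hk).1 hj).2
  have hhK : h ∈ K k := zpowers_le.2 hj hh
  set r' := r * h with hr'
  have hr'k : Commute r' k := hkr.symm.mul_left ((H.mem_K hp hk).1 hhK).1
  have hr'K : r' ∉ K k := fun h' =>
    H.not_mem_K hp hk hr ((mul_mem_cancel_right hhK).1 h')
  have hcc : r' * c * r'⁻¹ ∈ zpowers c := by
    refine H.mem_zpowers_of_K hp hc1 hcp hu c3 ?_ ?_
    · rw [e2, ← e1]
      exact H.conj_mem_K_of_commute hp hk (e1 ▸ hcK) hr'k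
    · have := commute_conj c3 r'
      rwa [conj_eq_of_commute hru] at this
  have hz : ∀ g ∈ zpowers c, Commute g k := fun g hg =>
    H.ab hp ha _ (zpowers_le.2 hcK hg) _ hkK
  obtain ⟨φ, hφ⟩ := H.loc u hu
  have cancel : ∀ g : G, Commute (g * r') k → Commute g k := fun g hg => by
    have := hg.mul_left hr'k.inv_left
    rwa [mul_inv_cancel_right] at this
  rcases H.comm_or_inverts hp hcp hcc with e | e
  · rcases hφ.cent_odd c3 hc1 hodd hcp hru (commute_of_conj_eq e) with h' | h'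
    · exact hr'K (e1 ▸ zpowers_le.2 hcK h')
    · have := conj_eq_of_commute (cancel _ (hz _ h'))
      exact hk.1 (eq_one_of_odd hodd hk.2.1 (k3.symm.trans this))
  · have h3 : Commute (t1 * r') c := commute_of_conj_eq (by
      calc t1 * r' * c * (t1 * r')⁻¹ = t1 * (r' * c * r'⁻¹) * t1⁻¹ := by group
        _ = c := by rw [e, conj_inv_of_inverts c1])
    have h4 : Commute t1 u := (Commute.refl t1).mul_right h12
    rcases hφ.cent_odd c3 hc1 hodd hcp (h4.mul_left hru) h3 with h' | h'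
    · have := conj_eq_of_commute (cancel _ (hz _ h'))
      rw [k1, hkd] at this
      exact hb.1 (eq_one_of_odd hodd hb.2.1 (mul_left_cancel this))
    · have h5 : u * (t1 * r') = t2 * r' := by
        rw [hud, h12.eq, mul_assoc, ← mul_assoc t1, h1.1, one_mul]
      rw [h5] at h'
      have := conj_eq_of_commute (cancel _ (hz _ h'))
      rw [k2, hkd] at this
      exact ha.1 (eq_one_of_odd hodd ha.2.1 (mul_right_cancel this))

/-- The configuration in which `K x` is elementary abelian of order `p ^ 3`. -/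
theorem cycle_facts (T : Tri p x t s) {w : G} (hw : w ^ 3 = 1) (h1 : w * t * w⁻¹ = s)
    (h2 : w * s * w⁻¹ = t * s) (hK : ∀ k ∈ K x, w * k * w⁻¹ ∈ K x) :
    ∃ y z : G, w * x * w⁻¹ = y ∧ w * y * w⁻¹ = z ∧ w * z * w⁻¹ = x ∧ y ∈ K x ∧ z ∈ K x ∧
      XP p y ∧ XP p z ∧ Commute y s ∧ Commute z (t * s) ∧ ¬ Commute w x ∧
      x * y * z ≠ 1 ∧ Commute (x * y * z) w ∧ XP 3 w ∧
      ∀ k ∈ K x, ∃ a ∈ zpowers x, ∃ b ∈ zpowers y, ∃ c ∈ zpowers z, k = a * b * c := by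
  have hxK := H.self_mem_K T.hp T.xP
  have hyK := hK _ hxK
  have hzK := hK _ hyK
  have hys : Commute (w * x * w⁻¹) s := h1 ▸ commute_conj T.xt w
  have hzs : Commute (w * (w * x * w⁻¹) * w⁻¹) (t * s) := h2 ▸ commute_conj hys w
  have hcube : w * (w * (w * x * w⁻¹) * w⁻¹) * w⁻¹ = x := by
    calc w * (w * (w * x * w⁻¹) * w⁻¹) * w⁻¹ = w ^ 3 * x * (w ^ 3)⁻¹ := by
          simp only [pow_succ, pow_zero]; group
      _ = x := by rw [hw]; group
  have hY := T.xP.conj w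
  have hZ := hY.conj w
  set y := w * x * w⁻¹ with hy
  set z := w * y * w⁻¹ with hz
  have hab := H.ab T.hp T.xP
  have hw1 : w ≠ 1 := by
    rintro rfl
    exact T.ne (by simpa using h1.symm)
  obtain ⟨φ, hφ⟩ := H.loc t T.ht
  obtain ⟨r, hr, hrw⟩ := hφ.exists_inv_commute T.hs T.st T.ne hw h1 h2
  refine ⟨y, z, rfl, rfl, hcube, hyK, hzK, hY, hZ, hys, hzs, fun h => ?_, fun h => ?_, ?_,
    ⟨hw1, hw, r, hr, hrw.symm⟩, fun k hk => ?_⟩
  · rw [hy, conj_eq_of_commute h] at hys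
    exact T.not_comm hys.symm
  · have e1 := H.inverted T hyK hys
    have e2 := H.inverted T.swap hzK hzs
    have e3 : x = (y * z)⁻¹ := eq_inv_of_mul_eq_one_left (by rw [← mul_assoc, h])
    refine T.x1 (eq_one_of_odd T.odd T.xp ?_)
    calc x⁻¹ = y * z := by rw [e3, inv_inv]
      _ = (t * z⁻¹ * t⁻¹) * (t * y⁻¹ * t⁻¹) := by
          rw [conj_inv_of_inverts e1, conj_inv_of_inverts e2, (hab _ hyK _ hzK).eq]
      _ = t * x * t⁻¹ := by rw [e3]; group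
      _ = x := conj_eq_of_commute T.xt.symm
  · refine (commute_of_conj_eq ?_).symm
    calc w * (x * y * z) * w⁻¹ = (w * x * w⁻¹) * (w * y * w⁻¹) * (w * z * w⁻¹) := by group
      _ = y * z * x := by rw [← hy, ← hz, hcube]
      _ = x * y * z := by rw [(hab _ (mul_mem hyK hzK) _ hxK).eq, mul_assoc x y z]
  · obtain ⟨c1, c, c2, k1, k2, k3, k4, k5, rfl⟩ := H.decomp T hk
    refine ⟨c, k3, c1, H.mem_zpowers_of_s T hyK hys hY.1 k1 k2, c2,
      H.mem_zpowers_of_s T.swap hzK hzs hZ.1 k4 k5, ?_⟩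
    rw [(hab _ k1 _ (H.zpowers_le_K T.hp T.xP k3)).eq]

theorem not_cycle_five (T : Tri 5 x t s) {w : G} (hw : w ^ 3 = 1) (h1 : w * t * w⁻¹ = s)
    (h2 : w * s * w⁻¹ = t * s) (hK : ∀ k ∈ K x, w * k * w⁻¹ ∈ K x) : False := by
  obtain ⟨y, z, -, -, -, hyK, hzK, hY, hZ, -, -, -, hne, hcw, hW, hall⟩ :=
    H.cycle_facts T hw h1 h2 hK
  have hab := H.ab T.hp T.xP
  have hxK := H.self_mem_K T.hp T.xP
  have hexp : ∀ k ∈ K x, k ^ 5 = 1 := by
    intro k hk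
    obtain ⟨a, ha, b, hb, c, hc, rfl⟩ := hall k hk
    have ha' := zpowers_le.2 hxK ha
    have hb' := zpowers_le.2 hyK hb
    have hc' := zpowers_le.2 hzK hc
    rw [(hab _ (mul_mem ha' hb') _ hc').mul_pow, (hab _ ha' _ hb').mul_pow,
      pow_eq_one_of_mem_zpowers T.xp ha, pow_eq_one_of_mem_zpowers hY.2.1 hb,
      pow_eq_one_of_mem_zpowers hZ.2.1 hc, one_mul, one_mul]
  have h3 : (3 : ℕ) = 3 ∨ 3 = 5 := Or.inl rfl
  have hv5 := hexp _ (mul_mem (mul_mem hxK hyK) hzK)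
  have hvK : x * y * z ∈ K w :=
    (H.mem_K h3 hW).2 ⟨hcw, odd_orderOf_of_pow (by decide) hv5⟩
  obtain ⟨r, hr, hwr⟩ := hW.2.2
  obtain ⟨s', T'⟩ := H.exists_tri h3 hW.1 hw hr hwr
  have key : ∀ c ∈ K w, ∀ u : G, Inv u → Commute c u → c ^ 3 = 1 := by
    intro c hc u hu hcu
    by_cases hc1 : c = 1
    · rw [hc1, one_pow]
    refine (H.odd_cases h3 hW hc hu hcu).resolve_right fun h5 => ?_
    have hC : XP 5 c := ⟨hc1, h5, u, hu, hcu⟩
    have hwc : w ∈ K c := (H.mem_K T.hp hC).2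
      ⟨((H.mem_K h3 hW).1 hc).1.symm, odd_orderOf_of_pow (by decide) hw⟩
    obtain ⟨g, -, hg⟩ := H.exists_conj_K T.hp hC T.xP
    have := hexp _ (hg ▸ Cj.conj_mem_conj g hwc)
    rw [conj_pow] at this
    have h5' : w ^ 5 = 1 := by
      by_contra h'
      exact conj_ne_one h' g this
    exact hW.1 (eq_one_of_pow_of_coprime hw h5' (by decide))
  obtain ⟨c1, c, c2, k1, k2, k3, k4, k5, e⟩ := H.decomp T' hvK
  have hab' := H.ab h3 hW
  have k3' := H.zpowers_le_K h3 hW k3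
  have hv3 : (x * y * z) ^ 3 = 1 := by
    rw [e, (hab' _ (mul_mem k1 k3') _ k4).mul_pow, (hab' _ k1 _ k3').mul_pow,
      key _ k1 _ T'.hs k2, key _ k4 _ T'.swap.hs k5, pow_eq_one_of_mem_zpowers hw k3, one_mul,
      one_mul]
  exact hne (eq_one_of_pow_of_coprime hv3 hv5 (by decide))

theorem not_cycle_three (T : Tri 3 x t s) {w : G} (hw : w ^ 3 = 1) (h1 : w * t * w⁻¹ = s)
    (h2 : w * s * w⁻¹ = t * s) (hK : ∀ k ∈ K x, w * k * w⁻¹ ∈ K x) : False := by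
  obtain ⟨y, z, ey, ez, ex, hyK, hzK, hY, hZ, hys, hzs, hwx, hne, hcw, hW, hall⟩ :=
    H.cycle_facts T hw h1 h2 hK
  have h3 := T.hp
  have hab := H.ab h3 T.xP
  have hxK := H.self_mem_K h3 T.xP
  have hvK : x * y * z ∈ K x := mul_mem (mul_mem hxK hyK) hzK
  have hv : ¬ XP 3 (x * y * z) := fun h => hwx (by
    have : w ∈ K (x * y * z) := (H.mem_K h3 h).2 ⟨hcw.symm, odd_orderOf_of_pow (by decide) hw⟩
    rw [H.K_eq_of_mem h3 T.xP h hvK] at this
    exact ((H.mem_K h3 T.xP).1 this).1)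
  have ty := H.inverted T hyK hys
  have tz := H.inverted T.swap hzK hzs
  have sz : s * z * s⁻¹ = z⁻¹ := by
    calc s * z * s⁻¹ = t * (t * s * z * (t * s)⁻¹) * t⁻¹ := by
          rw [mul_inv_rev, T.ht.inv_eq]
          calc s * z * s⁻¹ = (t * t) * s * z * s⁻¹ * (t * t) := by rw [T.ht.1]; group
            _ = _ := by group
      _ = z⁻¹ := by rw [conj_eq_of_commute hzs.symm, tz]
  have lx := zpowers_le.2 hxK
  have ly := zpowers_le.2 hyK
  have lz := zpowers_le.2 hzK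
  -- sign changes
  have f1 : ∀ a ∈ zpowers x, ∀ b ∈ zpowers y, ∀ c ∈ zpowers z,
      XP 3 (a * b * c) → XP 3 (a * b⁻¹ * c⁻¹) := by
    intro a ha b hb c hc h
    have := h.conj t
    rwa [show t * (a * b * c) * t⁻¹ = (t * a * t⁻¹) * (t * b * t⁻¹) * (t * c * t⁻¹) by group,
      conj_eq_of_commute (commute_of_mem_zpowers T.xt.symm ha), inverts_of_mem_zpowers ty hb,
      inverts_of_mem_zpowers tz hc] at this
  have f2 : ∀ a ∈ zpowers x, ∀ b ∈ zpowers y, ∀ c ∈ zpowers z,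
      XP 3 (a * b * c) → XP 3 (a⁻¹ * b * c⁻¹) := by
    intro a ha b hb c hc h
    have := h.conj s
    rwa [show s * (a * b * c) * s⁻¹ = (s * a * s⁻¹) * (s * b * s⁻¹) * (s * c * s⁻¹) by group,
      conj_eq_of_commute (commute_of_mem_zpowers hys.symm hb), inverts_of_mem_zpowers T.inv ha,
      inverts_of_mem_zpowers sz hc] at this
  have f3 : ∀ a ∈ zpowers x, ∀ b ∈ zpowers y, ∀ c ∈ zpowers z,
      XP 3 (a * b * c) → XP 3 (a⁻¹ * b⁻¹ * c⁻¹) := by
    intro a ha b hb c hc h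
    have := h.inv
    rwa [(hab _ (mul_mem (lx ha) (ly hb)) _ (lz hc)).eq, (hab _ (lx ha) _ (ly hb)).eq, mul_inv_rev,
      mul_inv_rev] at this
  have mx := mem_zpowers x
  have my := mem_zpowers y
  have mz := mem_zpowers z
  have three : ∀ a ∈ zpowers x, ∀ b ∈ zpowers y, ∀ c ∈ zpowers z, a ≠ 1 → b ≠ 1 → c ≠ 1 →
      ¬ XP 3 (a * b * c) := by
    intro a ha b hb c hc ha1 hb1 hc1 h
    apply hv
    rcases eq_or_eq_inv_of_three T.xp ha ha1 with rfl | rfl <;>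
      rcases eq_or_eq_inv_of_three hY.2.1 hb hb1 with rfl | rfl <;>
      rcases eq_or_eq_inv_of_three hZ.2.1 hc hc1 with rfl | rfl
    · exact h
    · simpa using f3 _ (inv_mem ha) _ (inv_mem hb) _ hc
        (by simpa using f1 _ (inv_mem ha) _ hb _ (inv_mem hc) (f2 _ ha _ hb _ hc h))
    · simpa using f3 _ (inv_mem ha) _ hb _ (inv_mem hc) (f2 _ ha _ hb _ hc h)
    · simpa using f1 _ ha _ hb _ hc h
    · simpa using f3 _ ha _ (inv_mem hb) _ (inv_mem hc) (f1 _ ha _ hb _ hc h)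
    · simpa using f2 _ ha _ hb _ hc h
    · simpa using f1 _ (inv_mem ha) _ hb _ (inv_mem hc) (f2 _ ha _ hb _ hc h)
    · simpa using f3 _ ha _ hb _ hc h
  have cases : ∀ k ∈ K x, XP 3 k → k ∈ zpowers x ∨ t * k * t⁻¹ = k⁻¹ := by
    intro k hk hX
    obtain ⟨a, ha, b, hb, c, hc, rfl⟩ := hall k hk
    by_cases ha1 : a = 1
    · right
      rw [ha1, one_mul, show t * (b * c) * t⁻¹ = (t * b * t⁻¹) * (t * c * t⁻¹) by group,
        inverts_of_mem_zpowers ty hb, inverts_of_mem_zpowers tz hc, mul_inv_rev,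
        (hab _ (ly hb) _ (lz hc)).inv_inv.eq]
    have hA : XP 3 a := ⟨ha1, pow_eq_one_of_mem_zpowers T.xp ha, t, T.ht,
      (commute_of_mem_zpowers T.xt.symm ha).symm⟩
    have hKa : K a = K x := K_eq_of_mem_zpowers h3 T.xp ha ha1
    left
    by_cases hb1 : b = 1 <;> by_cases hc1 : c = 1
    · rw [hb1, hc1, mul_one, mul_one]; exact ha
    · exfalso
      rw [hb1, mul_one] at hX
      have hct := (commute_of_mem_zpowers hzs.symm hc).symm
      refine H.not_XP_mul h3 hA ⟨hc1, pow_eq_one_of_mem_zpowers hZ.2.1 hc, _, T.swap.hs, hct⟩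
        hY.1 hY.2.1 (hKa ▸ lz hc) (hKa ▸ hyK) T.ht T.swap.hs T.swap.st.symm T.swap.ne.symm
        (commute_of_mem_zpowers T.xt.symm ha).symm (inverts_of_mem_zpowers tz hc) ty
        (inverts_of_mem_zpowers T.swap.inv ha) hct ?_ hX
      rwa [← mul_assoc, T.ht.1, one_mul]
    · exfalso
      rw [hc1, mul_one] at hX
      have hbs := (commute_of_mem_zpowers hys.symm hb).symm
      exact H.not_XP_mul h3 hA ⟨hb1, pow_eq_one_of_mem_zpowers hY.2.1 hb, _, T.hs, hbs⟩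
        hZ.1 hZ.2.1 (hKa ▸ ly hb) (hKa ▸ hzK) T.ht T.hs T.st.symm T.ne.symm
        (commute_of_mem_zpowers T.xt.symm ha).symm (inverts_of_mem_zpowers ty hb) tz
        (inverts_of_mem_zpowers T.inv ha) hbs hzs hX
    · exact absurd hX (three a ha b hb c hc ha1 hb1 hc1)
  -- transport to `w`
  obtain ⟨r, hr, hwr⟩ := hW.2.2
  obtain ⟨g, hgr, hgw⟩ := H.pair_conj h3 hW.1 hw hr hwr T.x1 T.xp T.ht T.xt
  have cases' : ∀ k ∈ K w, XP 3 k → k ∈ zpowers w ∨ r * k * r⁻¹ = k⁻¹ := by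
    intro k hk hX
    have hk' : g * k * g⁻¹ ∈ K x := by
      rw [← K_eq_of_mem_zpowers h3 T.xp hgw (conj_ne_one hW.1 g)]
      exact H.conj_mem_K h3 hW hk g
    rcases cases _ hk' (hX.conj g) with h | h
    · left
      obtain ⟨j, hj⟩ := zpowers_le.2 (mem_zpowers_symm Nat.prime_three T.xp hgw
        (conj_ne_one hW.1 g)) h
      refine ⟨j, ?_⟩
      have hj' : (g * w * g⁻¹) ^ j = g * k * g⁻¹ := hj
      rw [conj_zpow] at hj'
      simpa using hj'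
    · right
      rw [← hgr] at h
      calc r * k * r⁻¹ = g⁻¹ * (g * r * g⁻¹ * (g * k * g⁻¹) * (g * r * g⁻¹)⁻¹) * g := by group
        _ = k⁻¹ := by rw [h]; group
  set v := x * y * z with hvd
  have y3 : y⁻¹ * y⁻¹ = y := by
    have := hY.2.1
    calc y⁻¹ * y⁻¹ = y ^ 3 * (y⁻¹ * y⁻¹) := by rw [this, one_mul]
      _ = y := by simp only [pow_succ, pow_zero]; group
  have hxy := hab _ hxK _ hyK
  have hyz := hab _ hyK _ hzK
  have e1 : x * y⁻¹ * w * (x * y⁻¹)⁻¹ = v * w := by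
    calc x * y⁻¹ * w * (x * y⁻¹)⁻¹
        = x * y⁻¹ * ((w * y * w⁻¹) * (w * x * w⁻¹)⁻¹) * w := by group
      _ = x * (y⁻¹ * y⁻¹) * z * w := by rw [ey, ez, ← hyz.inv_left.eq]; group
      _ = v * w := by rw [y3]
  have e2 : (x * y⁻¹)⁻¹ * w * (x * y⁻¹)⁻¹⁻¹ = v⁻¹ * w := by
    calc (x * y⁻¹)⁻¹ * w * (x * y⁻¹)⁻¹⁻¹
        = y * x⁻¹ * ((w * x * w⁻¹) * (w * y * w⁻¹)⁻¹) * w := by group
      _ = (z * (y⁻¹ * x * y⁻¹))⁻¹ * w := by rw [ey, ez]; group
      _ = v⁻¹ * w := by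
        rw [← hxy.inv_right.eq, mul_assoc x, y3, hvd,
          (hab _ (mul_mem hxK hyK) _ hzK).eq]
  have X1 : XP 3 (v * w) := e1 ▸ hW.conj _
  have X2 : XP 3 (v⁻¹ * w) := e2 ▸ hW.conj _
  have K1 : v * w ∈ K w := (H.mem_K h3 hW).2
    ⟨hcw.mul_left (Commute.refl w), odd_orderOf_of_pow (by decide) X1.2.1⟩
  have K2 : v⁻¹ * w ∈ K w := (H.mem_K h3 hW).2
    ⟨hcw.inv_left.mul_left (Commute.refl w), odd_orderOf_of_pow (by decide) X2.2.1⟩
  have nv : v ∉ zpowers w := fun h => hv ⟨hne, pow_eq_one_of_mem_zpowers hw h, r, hr,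
    (commute_of_mem_zpowers hwr.symm h).symm⟩
  have i1 := (cases' _ K1 X1).resolve_left fun h =>
    nv ((mul_mem_cancel_right (mem_zpowers w)).1 h)
  have i2 := (cases' _ K2 X2).resolve_left fun h =>
    nv (inv_mem_iff.1 ((mul_mem_cancel_right (mem_zpowers w)).1 h))
  have e3 : v * w * (v⁻¹ * w) = w * w := by rw [hcw.eq]; group
  have e4 : r * (w * w) * r⁻¹ = (w * w)⁻¹ := by
    calc r * (w * w) * r⁻¹ = (r * (v * w) * r⁻¹) * (r * (v⁻¹ * w) * r⁻¹) := by rw [← e3]; group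
      _ = (v⁻¹ * w * (v * w))⁻¹ := by rw [i1, i2, mul_inv_rev (v⁻¹ * w)]
      _ = (w * w)⁻¹ := by rw [← (H.ab h3 hW _ K1 _ K2).eq, e3]
  rw [conj_eq_of_commute (hwr.symm.mul_right hwr.symm)] at e4
  have e5 : (w * w) ^ 3 = 1 := by rw [(Commute.refl w).mul_pow, hw, one_mul]
  have e6 := eq_one_of_odd (by decide) e5 e4.symm
  exact hW.1 (eq_one_of_pow_of_coprime hw (show w ^ 2 = 1 by rw [pow_two, e6]) (by decide))

theorem eq_one_of_pow_p (T : Tri p x t s) {y : G} (hy : y ∈ K x) (hyp : y ^ p = 1)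
    (hys : Commute y s) : y = 1 := by
  by_contra hy1
  obtain ⟨w, h1, h2, h3, h4⟩ := H.exists_cycle T hy hy1 hyp hys
  rcases T.hp with rfl | rfl
  · exact H.not_cycle_three T h1 h2 h3 h4
  · exact H.not_cycle_five T h1 h2 h3 h4

theorem pow_other (T : Tri p x t s) {y : G} (hy : y ∈ K x) (hys : Commute y s) :
    y ^ (8 - p) = 1 := by
  rcases H.odd_cases T.hp T.xP hy T.hs hys with h | h <;> rcases T.hp with rfl | rfl
  · rw [H.eq_one_of_pow_p T hy h hys, one_pow]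
  · exact h
  · exact h
  · rw [H.eq_one_of_pow_p T hy h hys, one_pow]

/-- `K x` is `⟨x⟩` or cyclic of order `15`. -/
theorem K_cases (T : Tri p x t s) : (∀ k ∈ K x, k ∈ zpowers x) ∨
    ∃ y ∈ K x, XP (8 - p) y ∧ t * y * t⁻¹ = y⁻¹ ∧
      ∀ k ∈ K x, ∃ a ∈ zpowers x, ∃ b ∈ zpowers y, k = a * b := by
  have hab := H.ab T.hp T.xP
  have hq : 8 - p = 3 ∨ 8 - p = 5 := by rcases T.hp with rfl | rfl <;> simp
  have hqq : 8 - (8 - p) = p := by rcases T.hp with rfl | rfl <;> simp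
  have hcop : p.Coprime (8 - p) := by rcases T.hp with rfl | rfl <;> decide
  have both : ∀ y1 ∈ K x, ∀ y2 ∈ K x, Commute y1 s → Commute y2 (t * s) → y1 ≠ 1 → y2 = 1 := by
    intro y1 h1 y2 h2 c1 c2 n1
    have q1 := H.pow_other T h1 c1
    have q2 := H.pow_other T.swap h2 c2
    obtain ⟨s', T'⟩ := H.exists_tri hq n1 q1 T.hs c1
    have h2' : y2 ∈ K y1 :=
      (H.mem_K hq T'.xP).2 ⟨hab _ h2 _ h1, ((H.mem_K T.hp T.xP).1 h2).2⟩
    obtain ⟨a1, a, a2, k1, k2, k3, k4, k5, e⟩ := H.decomp T' h2'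
    have hab' := H.ab hq T'.xP
    have k3' := H.zpowers_le_K hq T'.xP k3
    have p1 := H.pow_other T' k1 k2
    have p2 := H.pow_other T'.swap k4 k5
    rw [hqq] at p1 p2
    have e1 : y2 ^ p ∈ zpowers y1 := by
      rw [e, (hab' _ (mul_mem k1 k3') _ k4).mul_pow, (hab' _ k1 _ k3').mul_pow, p1, p2, one_mul,
        mul_one]
      exact pow_mem k3 p
    have e2 : Commute (y2 ^ p) s := (commute_of_mem_zpowers c1.symm e1).symm
    have e3 : Commute (y2 ^ p) t := by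
      have := (c2.pow_left p).mul_right e2
      rwa [mul_assoc, T.hs.1, mul_one] at this
    have e4 := H.mem_zpowers_of_K T.hp T.x1 T.xp T.ht T.xt (pow_mem h2 p) e3
    have e5 : y2 ^ p = 1 := eq_one_of_pow_of_coprime (pow_eq_one_of_mem_zpowers T.xp e4)
      (by rw [← pow_mul, mul_comm, pow_mul, q2, one_pow]) hcop
    exact eq_one_of_pow_of_coprime e5 q2 hcop
  have lx := H.zpowers_le_K T.hp T.xP
  by_cases h1 : ∃ y ∈ K x, Commute y s ∧ y ≠ 1
  · obtain ⟨y, hy, hys, hy1⟩ := h1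
    refine Or.inr ⟨y, hy, ⟨hy1, H.pow_other T hy hys, s, T.hs, hys⟩, H.inverted T hy hys,
      fun k hk => ?_⟩
    obtain ⟨c1, c, c2, k1, k2, k3, k4, k5, rfl⟩ := H.decomp T hk
    refine ⟨c, k3, c1, H.mem_zpowers_of_s T hy hys hy1 k1 k2, ?_⟩
    rw [both y hy c2 k4 hys k5 hy1, mul_one, (hab _ k1 _ (lx k3)).eq]
  push Not at h1
  by_cases h2 : ∃ y ∈ K x, Commute y (t * s) ∧ y ≠ 1
  · obtain ⟨y, hy, hys, hy1⟩ := h2
    refine Or.inr ⟨y, hy, ⟨hy1, H.pow_other T.swap hy hys, _, T.swap.hs, hys⟩,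
      H.inverted T.swap hy hys, fun k hk => ?_⟩
    obtain ⟨c1, c, c2, k1, k2, k3, k4, k5, rfl⟩ := H.decomp T hk
    refine ⟨c, k3, c2, H.mem_zpowers_of_s T.swap hy hys hy1 k4 k5, ?_⟩
    rw [h1 c1 k1 k2, one_mul]
  push Not at h2
  left
  intro k hk
  obtain ⟨c1, c, c2, k1, k2, k3, k4, k5, rfl⟩ := H.decomp T hk
  rw [h1 c1 k1 k2, h2 c2 k4 k5, one_mul, mul_one]; exact k3

end Hyp

end CL.J1C
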