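import Cfsg.Agent.Base
import Cfsg.Agent.J1.Odd2
import Cfsg.Agent.Char.InvolCount
import Cfsg.Agent.Char.Exceptional
import Cfsg.Agent.Char.Galois
import Cfsg.Agent.Char.Linear

/-!
# Groups of type `J₁`: elements of order `3` and `5` commute

If the centralisers of the elements of order `3` and `5` of `C(t)` were cyclic of orders `6` and
`10`, two induced generalised characters of norm three would force `|G| ∣ 120 ^ 3`.
-/

set_option autoImplicit false

open Subgroup Cfsg CL.Char
open scoped ComplexConjugate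

namespace CL.J1C

variable {G : Type*} [Group G]

/-- An abelian subgroup inverted by an involution, with a trivial intersection property. -/
structure CD (C : Subgroup G) (s : G) : Prop where
  comm : ∀ a ∈ C, ∀ b ∈ C, Commute a b
  hs : s * s = 1
  notMem : s ∉ C
  inv : ∀ c ∈ C, s * c * s⁻¹ = c⁻¹
  ti : ∀ c ∈ C, c * c ≠ 1 → ∀ g : G, g * c * g⁻¹ ∈ C → g ∈ C ∨ g * s ∈ C

/-- plus or minus an irreducible character -/
def SIrr (ξ : G → ℂ) : Prop := IsIrrCharacter G ξ ∨ IsIrrCharacter G (-ξ)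

section

variable [Fintype G]

/-- sum over products of two conjugates of `t` -/
noncomputable def TT (t : G) (B : G → ℂ) : ℂ :=
  ∑ y : G, ∑ z : G, B (y * t * y⁻¹ * (z * t * z⁻¹))

theorem TT_add (t : G) (A B : G → ℂ) : TT t (A + B) = TT t A + TT t B := by
  simp [TT, Finset.sum_add_distrib]

theorem TT_neg (t : G) (A : G → ℂ) : TT t (-A) = -TT t A := by
  simp [TT]

theorem TT_irr (t : G) {χ : G → ℂ} (h : IsIrrCharacter G χ) :
    TT t χ = (Nat.card G : ℂ) ^ 2 * (χ t ^ 2 / χ 1) := by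
  unfold TT
  simp_rw [irr_sum_mul_conj h, irr_isClassFunction h t _]
  rw [Finset.sum_const, Finset.card_univ, ← Nat.card_eq_fintype_card, nsmul_eq_mul]
  ring

theorem SIrr.TT_eq (t : G) {ξ : G → ℂ} (h : SIrr ξ) :
    TT t ξ = (Nat.card G : ℂ) ^ 2 * (ξ t ^ 2 / ξ 1) := by
  rcases h with h | h
  · exact TT_irr t h
  · have := TT_irr t h
    rw [TT_neg] at this
    rw [← neg_neg (TT t ξ), this]
    simp only [Pi.neg_apply]
    rw [div_neg]; ring

omit [Fintype G] in
theorem SIrr.apply_one_ne {ξ : G → ℂ} (h : SIrr ξ) : ξ 1 ≠ 0 := by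
  rcases h with h | h
  · exact irr_apply_one_ne_zero h
  · simpa using irr_apply_one_ne_zero h

omit [Fintype G] in
theorem SIrr.gen {ξ : G → ℂ} (h : SIrr ξ) : IsGeneralizedCharacter G ξ := by
  rcases h with h | h
  · exact gen_of_irr h
  · simpa using gen_neg (gen_of_irr h)

theorem SIrr.norm {ξ : G → ℂ} (h : SIrr ξ) : classInner ξ ξ = 1 := by
  rcases h with h | h
  · exact irr_inner_self h
  · have := irr_inner_self h
    rwa [classInner_neg_left, classInner_neg_right, neg_neg] at this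

omit [Fintype G] in
theorem sirr_smul {ε : ℤ} (hε : ε = 1 ∨ ε = -1) {a : G → ℂ} (ha : IsIrrCharacter G a) :
    SIrr ((ε : ℂ) • a) := by
  rcases hε with rfl | rfl
  · left; simpa using ha
  · right; simpa using ha

theorem exists_common {α β : G → ℂ} (hα : IsGeneralizedCharacter G α)
    (hβ : IsGeneralizedCharacter G β) (h1 : classInner α α = 2) (h2 : classInner β β = 2)
    (h3 : classInner α β = 1) : ∃ u : G → ℂ, SIrr u ∧ SIrr (α - u) ∧ SIrr (β - u) := by
  obtain ⟨ε, δ, a, b, hε, hδ, ha, hb, -, e⟩ := gen_norm_two hα h1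
  have key : ∀ u v : G → ℂ, SIrr u → SIrr v → α = u + v → ∀ A : ℤ, classInner u β = A → 1 ≤ A →
      ∃ u : G → ℂ, SIrr u ∧ SIrr (α - u) ∧ SIrr (β - u) := by
    intro u v hu hv e A hA h
    refine ⟨u, hu, by rw [e, add_sub_cancel_left]; exact hv, ?_⟩
    have hg := gen_sub hβ hu.gen
    obtain ⟨n, hn⟩ := gen_inner_self_nat hg
    have hn' := hn
    rw [classInner_sub_left, classInner_sub_right, classInner_sub_right, h2, hu.norm,
      gen_inner_comm hβ hu.gen, hA] at hn'
    have : (3 - 2 * A : ℤ) = n := by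
      have : ((3 - 2 * A : ℤ) : ℂ) = ((n : ℤ) : ℂ) := by push_cast; linear_combination hn'
      exact_mod_cast this
    have hn1 : n = 1 := by omega
    exact gen_norm_one hg (by rw [hn, hn1, Nat.cast_one])
  have hu := sirr_smul hε ha
  have hv := sirr_smul hδ hb
  obtain ⟨A, hA⟩ := gen_inner_int hu.gen hβ
  obtain ⟨B, hB⟩ := gen_inner_int hv.gen hβ
  have hAB : A + B = 1 := by
    rw [e, classInner_add_left, hA, hB] at h3
    exact_mod_cast h3
  by_cases h : 1 ≤ A
  · exact key _ _ hu hv e A hA h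
  · exact key _ _ hv hu (by rw [e, add_comm]) B hB (by omega)

theorem sum_ite_mem (C : Subgroup G) [DecidablePred (· ∈ C)] (s : G) (a : ℂ) :
    ∑ x : G, (if x * s ∈ C then a else 0) = Nat.card C * a := by
  rw [Fintype.sum_equiv (Equiv.mulRight s) (fun x => if x * s ∈ C then a else 0)
    (fun x => if x ∈ C then a else 0) (fun _ => rfl), ← Finset.sum_filter, Finset.sum_const, nsmul_eq_mul, Nat.card_eq_fintype_card,
    Fintype.card_subtype]

namespace CD

variable {C : Subgroup G} {s : G}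

omit [Fintype G] in
theorem conj_eq_inv (h : CD C s) {c g : G} (hc : c ∈ C) (hg : g * s ∈ C) :
    g * c * g⁻¹ = c⁻¹ := by
  have e : g = (g * s) * s := by rw [mul_assoc, h.hs, mul_one]
  calc g * c * g⁻¹ = (g * s) * (s * c * s⁻¹) * (g * s)⁻¹ := by
        conv_lhs => rw [e]
        group
    _ = c⁻¹ := by rw [h.inv c hc, conj_eq_of_commute (h.comm _ hg _ (inv_mem hc))]

omit [Fintype G] in
theorem not_both (h : CD C s) {g : G} (h1 : g ∈ C) (h2 : g * s ∈ C) : False :=
  h.notMem ((mul_mem_cancel_left h1).1 h2)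

theorem indFun_eq_zero {ψ : C → ℂ} (hψ : ∀ c : C, (c : G) * c = 1 → ψ c = 0) {g : G}
    (hg : g * g = 1) : indFun C ψ g = 0 :=
  indFun_eq_zero_of_forall C ψ fun x _ => hψ _ (by
    calc x * g * x⁻¹ * (x * g * x⁻¹) = x * (g * g) * x⁻¹ := by group
      _ = 1 := by rw [hg]; group)

theorem indFun_apply (h : CD C s) {ψ : C → ℂ} (hψ : ∀ c : C, (c : G) * c = 1 → ψ c = 0) (c : C) :
    indFun C ψ c = ψ c + ψ c⁻¹ := by
  classical
  by_cases hc : (c : G) * c = 1
  · rw [indFun_eq_zero hψ hc, hψ c hc, hψ c⁻¹ (by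
      rw [coe_inv, ← mul_inv_rev, hc, inv_one]), add_zero]
  rw [indFun_apply']
  have key : ∀ x : G, extendByZero C ψ (x * c * x⁻¹) =
      (if x * 1 ∈ C then ψ c else 0) + (if x * s ∈ C then ψ c⁻¹ else 0) := by
    intro x
    rw [mul_one]
    by_cases h1 : x ∈ C
    · rw [if_pos h1, if_neg (h.not_both h1), add_zero,
        conj_eq_of_commute (h.comm _ h1 _ c.2), extendByZero_coe]
    by_cases h2 : x * s ∈ C
    · rw [if_neg h1, if_pos h2, zero_add, h.conj_eq_inv c.2 h2, ← coe_inv, extendByZero_coe]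
    · rw [if_neg h1, if_neg h2, add_zero]
      exact extendByZero_of_not_mem C ψ fun h3 => (h.ti _ c.2 hc x h3).elim h1 h2
  simp_rw [key]
  rw [Finset.sum_add_distrib, sum_ite_mem, sum_ite_mem]
  have := natCard_cast_ne_zero C
  field_simp

theorem TT_indFun [Fintype C] (h : CD C s) (H : Hyp G) {t : G} (ht : Inv t) {ψ : C → ℂ}
    (hψ : ∀ c : C, (c : G) * c = 1 → ψ c = 0) :
    TT t (indFun C ψ) = Nat.card G * 120 ^ 2 * ∑ c : C, ψ c := by
  classical
  obtain ⟨φ, hφ⟩ := H.loc t ht
  have hJ : ∀ u : G, IsConj t u ↔ Inv u := fun u =>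
    ⟨fun hu => by obtain ⟨g, rfl⟩ := isConj_iff.1 hu; exact ht.conj g,
      fun hu => isConj_iff.2 (H.conj t u ht hu)⟩
  unfold TT
  rw [sum_sum_indFun_conj_mul]
  have h2 : ∀ y : G, ∑ z : G, extendByZero C ψ (y * t * y⁻¹ * (z * t * z⁻¹)) =
      120 * ∑ v ∈ Finset.univ.filter (IsConj t), extendByZero C ψ (y * t * y⁻¹ * v) := fun y => by
    rw [sum_conj_eq_card_centralizer_mul t fun v => extendByZero C ψ (y * t * y⁻¹ * v),
      nsmul_eq_mul, hφ.card_centralizer]
    norm_num
  simp_rw [h2]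
  rw [← Finset.mul_sum, sum_conj_eq_card_centralizer_mul t
    fun u => ∑ v ∈ Finset.univ.filter (IsConj t), extendByZero C ψ (u * v), nsmul_eq_mul,
    hφ.card_centralizer]
  have h3 : ∑ u ∈ Finset.univ.filter (IsConj t), ∑ v ∈ Finset.univ.filter (IsConj t),
      extendByZero C ψ (u * v) = Nat.card C * ∑ c : C, ψ c := by
    have e1 : ∀ u : G, (if IsConj t u then ∑ v : G, (if IsConj t v then extendByZero C ψ (u * v)
        else 0) else 0) = ∑ c : G, if u * s ∈ C then extendByZero C ψ c else 0 := by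
      intro u
      rw [← Fintype.sum_equiv (Equiv.mulLeft u) (fun v => if u * s ∈ C then
        extendByZero C ψ (u * v) else 0) (fun c => if u * s ∈ C then extendByZero C ψ c else 0)
        (fun _ => rfl)]
      have e2 : ∀ v : G, (if IsConj t u ∧ IsConj t v then extendByZero C ψ (u * v) else 0) =
          if u * s ∈ C then extendByZero C ψ (u * v) else 0 := by
        intro v
        by_cases hm : u * v ∈ C
        swap
        · simp [extendByZero_of_not_mem C ψ hm]
        by_cases hsq : u * v * (u * v) = 1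
        · have : extendByZero C ψ (u * v) = 0 := by
            rw [extendByZero_of_mem C ψ hm]; exact hψ _ hsq
          simp [this]
        refine if_congr ?_ rfl rfl
        rw [hJ, hJ]
        constructor
        · rintro ⟨hu, hv⟩
          have e3 : u * (u * v) * u⁻¹ = (u * v)⁻¹ := by
            rw [← mul_assoc, hu.1, one_mul, mul_inv_rev, hv.inv_eq]
          refine (h.ti _ hm hsq u (by rw [e3]; exact inv_mem hm)).resolve_left fun hu' => hsq ?_
          rw [conj_eq_of_commute (h.comm _ hu' _ hm)] at e3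
          nth_rw 1 [e3]; simp
        · intro hu
          have key : ∀ w : G, w * s ∈ C → Inv w := fun w hw => by
            refine ⟨?_, fun h1 => h.notMem (by rwa [h1, one_mul] at hw)⟩
            have e3 := h.inv _ hw
            rw [inv_eq_of_mul_eq_one_right h.hs] at e3
            calc w * w = (w * s) * (s * (w * s) * s) * (s * s) * (s * s)⁻¹ * (s * s)⁻¹ *
                  (s * s) := by rw [h.hs]; simp only [← mul_assoc]; simp [mul_assoc, h.hs]
              _ = 1 := by rw [e3, h.hs]; simp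
          refine ⟨key u hu, key v ?_⟩
          have e4 : v * s = (u * (u * v) * u⁻¹) * (u * s) := by
            rw [← mul_assoc u u, (key u hu).1]; group
          rw [e4, h.conj_eq_inv hm hu]
          exact mul_mem (inv_mem hm) hu
      simp_rw [← e2]
      split_ifs with hu
      · simp only [hu, true_and]
      · simp only [hu, false_and, if_false, Finset.sum_const_zero]
    simp_rw [Finset.sum_filter, e1]
    rw [Finset.sum_comm]
    simp_rw [sum_ite_mem]
    rw [← Finset.mul_sum, sum_extendByZero]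
  rw [h3]
  have := natCard_cast_ne_zero C
  field_simp
  norm_num

/-- The generalised character `(1 - λ)^G`. -/
theorem exists_gen [Fintype C] (h : CD C s) (H : Hyp G) {t : G} (ht : Inv t) {x : G} (hx : x ∈ C)
    (hx1 : x ≠ 1) {n : ℕ} (hn : Odd n) (hxn : x ^ n = 1) :
    ∃ ψ : C → ℂ, (∀ c : C, (c : G) * c = 1 → ψ c = 0) ∧ IsGeneralizedCharacter G (indFun C ψ) ∧
      classInner (indFun C ψ) (indFun C ψ) = 3 ∧ classInner (indFun C ψ) (fun _ => 1) = 1 ∧
      TT t (indFun C ψ) = Nat.card G * 120 ^ 2 * Nat.card C := by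
  classical
  have hcomm : _root_.commutator C = ⊥ := by
    rw [eq_bot_iff, _root_.commutator, commutator_le]
    intro a _ b _
    rw [mem_bot, commutatorElement_eq_one_iff_commute]
    exact Subtype.ext (h.comm _ a.2 _ b.2)
  obtain ⟨μ, hμ⟩ := exists_linear_apply_ne_one (G := C) (g := ⟨x, hx⟩) (by
    rw [hcomm, mem_bot]; exact fun e => hx1 (congrArg Subtype.val e))
  have hμn : μ ⟨x, hx⟩ ^ n = 1 := by
    rw [← map_pow, show (⟨x, hx⟩ : C) ^ n = 1 from Subtype.ext hxn, map_one]
  have h2 : μ ⟨x, hx⟩ ^ 2 ≠ 1 := fun e =>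
    hμ (eq_one_of_pow_of_coprime hμn e (Nat.coprime_two_right.2 hn))
  have h4 : μ ⟨x, hx⟩ ^ 4 ≠ 1 := fun e =>
    hμ (eq_one_of_pow_of_coprime hμn e
      (Nat.Coprime.pow_right 2 (Nat.coprime_two_right.2 hn)))
  set l := μ * μ with hl
  have l1 : l ≠ 1 := fun e => h2 (by
    have := DFunLike.congr_fun e ⟨x, hx⟩
    rwa [hl, MonoidHom.mul_apply, ← pow_two] at this)
  have l2 : l ≠ l⁻¹ := fun e => h4 (by
    have := DFunLike.congr_fun e ⟨x, hx⟩
    rw [MonoidHom.inv_apply, hl, MonoidHom.mul_apply, eq_inv_iff_mul_eq_one] at this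
    rw [← this]; simp only [pow_succ, pow_zero, one_mul, mul_assoc])
  have l3 : (1 : C →* ℂˣ) ≠ l⁻¹ := fun e => l1 (MonoidHom.ext fun c => by
    have := DFunLike.congr_fun e c
    rw [MonoidHom.one_apply, MonoidHom.inv_apply] at this
    exact inv_eq_one.1 this.symm)
  set E : (C →* ℂˣ) → C → ℂ := fun m c => (m c : ℂ) with hE
  have hin : ∀ m m' : C →* ℂˣ, classInner (E m) (E m') = if m = m' then 1 else 0 :=
    classInner_linear
  have hvan : ∀ c : C, (c : G) * c = 1 → (E 1 - E l) c = 0 := by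
    intro c hc
    have : c * c = 1 := Subtype.ext hc
    simp only [hE, hl, Pi.sub_apply, MonoidHom.one_apply, MonoidHom.mul_apply, ← map_mul, this,
      map_one, sub_self]
  refine ⟨E 1 - E l, hvan, gen_indFun C (gen_sub (gen_of_char (isCharacter_linear 1))
    (gen_of_char (isCharacter_linear l))), ?_, ?_, ?_⟩
  · rw [classInner_indFun_left C _ (indFun_isClassFunction C _)]
    have : (fun c : C => indFun C (E 1 - E l) c) = (E 1 - E l) + (E 1 - E l⁻¹) := by
      funext c
      rw [h.indFun_apply hvan]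
      simp [hE]
    rw [this]
    simp only [classInner_add_right, classInner_sub_left, classInner_sub_right, hin, if_true,
      if_neg l1, if_neg l1.symm, if_neg l2, if_neg l3]
    norm_num
  · rw [classInner_indFun_one]
    have : (fun _ : C => (1 : ℂ)) = E 1 := by funext c; simp [hE]
    rw [this, classInner_sub_left, hin, hin, if_pos rfl, if_neg l1, sub_zero]
  · rw [h.TT_indFun H ht hvan]
    simp only [Pi.sub_apply, Finset.sum_sub_distrib, hE]
    rw [sum_linear, sum_linear, if_pos rfl, if_neg l1, sub_zero]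

end CD

end

theorem Hyp.cd [Finite G] (H : Hyp G) {p : ℕ} {x t s : G} (T : Tri p x t s)
    (hK : ∀ k ∈ K x, k ∈ zpowers x) :
    CD (centralizer ({x} : Set G)) s ∧ Nat.card (centralizer ({x} : Set G)) = 2 * p ∧
      ∀ c ∈ centralizer ({x} : Set G), c ^ (2 * p) = 1 := by
  have : Fact p.Prime := ⟨prime_of_35 T.hp⟩
  have hmem : ∀ g, g ∈ centralizer ({x} : Set G) ↔ Commute g x := fun g =>
    mem_centralizer_singleton_iff
  have hxt : (x * t) ^ (2 * p) = 1 := by
    rw [T.xt.mul_pow, pow_mul t, pow_two, T.ht.1, mul_comm, pow_mul, T.xp, one_pow, one_pow,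
      one_mul]
  have ht' : t ∈ zpowers (x * t) := by
    obtain ⟨k, hk⟩ := T.odd
    refine ⟨(p : ℕ), ?_⟩
    show (x * t) ^ ((p : ℕ) : ℤ) = t
    rw [zpow_natCast, T.xt.mul_pow, T.xp, one_mul, hk, pow_succ, pow_mul, pow_two, T.ht.1,
      one_pow, one_mul]
  have hx' : x ∈ zpowers (x * t) := (mul_mem_cancel_right ht').1 (mem_zpowers _)
  have hC : centralizer ({x} : Set G) = zpowers (x * t) := by
    refine le_antisymm (fun g hg => ?_)
      (zpowers_le.2 ((hmem _).2 ((Commute.refl x).mul_left T.xt.symm)))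
    by_cases hgK : g ∈ K x
    · exact zpowers_le.2 hx' (hK g hgK)
    · have := H.mul_mem_K T.hp T.xP ((hmem g).1 hg) T.xt.symm hgK (H.not_mem_K T.hp T.xP T.ht)
      exact (mul_mem_cancel_right ht').1 (zpowers_le.2 hx' (hK _ this))
  have hsq : ∀ c ∈ centralizer ({x} : Set G), c * c ∈ zpowers x := fun c hc => by
    by_cases hcK : c ∈ K x
    · exact hK _ (mul_mem hcK hcK)
    · exact hK _ (H.mul_mem_K T.hp T.xP ((hmem c).1 hc) ((hmem c).1 hc) hcK hcK)
  refine ⟨⟨fun a ha b hb => ?_, T.hs.1, fun h => T.not_comm ((hmem s).1 h), fun c hc => ?_,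
    fun c hc hcc g hg => ?_⟩, ?_, fun c hc => ?_⟩
  · rw [hC] at ha hb
    exact commute_of_mem_zpowers (commute_of_mem_zpowers (Commute.refl _) ha).symm hb
  · rw [hC] at hc
    refine inverts_of_mem_zpowers ?_ hc
    calc s * (x * t) * s⁻¹ = (s * x * s⁻¹) * (s * t * s⁻¹) := by group
      _ = (x * t)⁻¹ := by
        rw [T.inv, conj_eq_of_commute T.st, mul_inv_rev, T.ht.inv_eq, T.xt.inv_left.eq]
  · have h1 : g * (c * c) * g⁻¹ ∈ zpowers x := by
      have := hsq _ hg
      rwa [show g * c * g⁻¹ * (g * c * g⁻¹) = g * (c * c) * g⁻¹ by group] at this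
    obtain ⟨j, hj⟩ := mem_zpowers_symm (prime_of_35 T.hp) T.xp (hsq c hc) hcc
    have h2 : g * x * g⁻¹ ∈ zpowers x := by
      have hj' : (c * c) ^ j = x := hj
      have := zpow_mem h1 j
      rwa [conj_zpow, hj'] at this
    rcases H.comm_or_inverts T.hp T.xp h2 with e | e
    · exact Or.inl ((hmem g).2 (commute_of_conj_eq e))
    · refine Or.inr ((hmem _).2 (commute_of_conj_eq ?_))
      calc g * s * x * (g * s)⁻¹ = g * (s * x * s⁻¹) * g⁻¹ := by group
        _ = x := by rw [T.inv, conj_inv_of_inverts e]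
  · rw [hC, Nat.card_zpowers, T.xt.orderOf_mul_eq_mul_orderOf_of_coprime,
      orderOf_eq_prime T.xp T.x1, inv_iff_orderOf.1 T.ht, mul_comm]
    rw [orderOf_eq_prime T.xp T.x1, inv_iff_orderOf.1 T.ht]
    exact Nat.coprime_two_right.2 T.odd
  · rw [hC] at hc
    exact pow_eq_one_of_mem_zpowers hxt hc

theorem Hyp.not_small [Finite G] (H : Hyp G) {x y t s s' : G} (T3 : Tri 3 x t s)
    (T5 : Tri 5 y t s') (h3 : ∀ k ∈ K x, k ∈ zpowers x) (h5 : ∀ k ∈ K y, k ∈ zpowers y) :
    False := by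
  classical
  have : Fintype G := Fintype.ofFinite G
  obtain ⟨D3, c3, e3⟩ := H.cd T3 h3
  obtain ⟨D5, c5, e5⟩ := H.cd T5 h5
  set C3 := centralizer ({x} : Set G)
  set C5 := centralizer ({y} : Set G)
  obtain ⟨ψ3, v3, g3, n3, o3, t3⟩ := D3.exists_gen H T3.ht
    (mem_centralizer_singleton_iff.2 rfl) T3.x1 T3.odd T3.xp
  obtain ⟨ψ5, v5, g5, n5, o5, t5⟩ := D5.exists_gen H T3.ht
    (mem_centralizer_singleton_iff.2 rfl) T5.x1 T5.odd T5.xp
  have orth : classInner (indFun C5 ψ5) (indFun C3 ψ3) = 0 := by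
    rw [classInner_indFun_left C5 _ (indFun_isClassFunction C3 _),
      classInner_congr_right (ψ' := 0), classInner_zero_right]
    intro c hc
    refine indFun_eq_zero_of_not_conj C3 ψ3 fun g hg => hc (v5 c ?_)
    have a1 := e3 _ hg
    rw [conj_pow] at a1
    have a2 : (c : G) ^ (2 * 3) = 1 := by
      by_contra h'
      exact conj_ne_one h' g a1
    rw [← pow_two]
    exact (pow_gcd_eq_one (a := (c : G)) (m := 2 * 3) (n := 2 * 5)).2 ⟨a2, e5 c c.2⟩
  have z3 := fun g (hg : g * g = 1) => CD.indFun_eq_zero v3 hg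
  have z5 := fun g (hg : g * g = 1) => CD.indFun_eq_zero v5 hg
  set β3 := indFun C3 ψ3
  set β5 := indFun C5 ψ5
  set one : G → ℂ := fun _ => 1 with hone
  have g1 : IsGeneralizedCharacter G one := gen_one
  have n1 : classInner one one = 1 := classInner_one_one
  obtain ⟨u, hu, hv, hq⟩ := exists_common (α := β5 - one) (β := one - β3) (gen_sub g5 g1)
    (gen_sub g1 g3)
    (by rw [classInner_sub_left, classInner_sub_right, classInner_sub_right, n5, o5,
      gen_inner_comm g1 g5, o5, n1]; norm_num)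
    (by rw [classInner_sub_left, classInner_sub_right, classInner_sub_right, n3, o3,
      gen_inner_comm g1 g3, o3, n1]; norm_num)
    (by rw [classInner_sub_left, classInner_sub_right, classInner_sub_right, orth, o5,
      gen_inner_comm g1 g3, o3, n1]; norm_num)
  obtain ⟨n, hn⟩ := gen_apply_one hu.gen
  obtain ⟨m, hm⟩ := gen_exists_int_of_sq_eq_one hu.gen (g := t) (by rw [pow_two, T3.ht.1])
  have T1 : TT t one = (Nat.card G : ℂ) ^ 2 := by
    rw [TT_irr t irr_one]; simp
  have a5 : TT t β5 = TT t one + TT t u + TT t (β5 - one - u) := by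
    rw [← TT_add, ← TT_add]; congr 1; abel
  have a3 : TT t one = TT t β3 + TT t u + TT t (one - β3 - u) := by
    rw [← TT_add, ← TT_add]; congr 1; abel
  have d0 := hu.apply_one_ne
  have d1 := hv.apply_one_ne
  have d2 := hq.apply_one_ne
  rw [t5, c5, T1, hu.TT_eq, hv.TT_eq] at a5
  rw [t3, c3, T1, hu.TT_eq, hq.TT_eq] at a3
  simp only [Pi.sub_apply, z3 _ (one_mul 1), z5 _ (one_mul 1), z3 _ T3.ht.1, z5 _ T3.ht.1, hone,
    hn, hm] at a5 a3 d0 d1 d2
  have hG := natCard_cast_ne_zero G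
  set N : ℂ := (Nat.card G : ℂ) with hN
  have b5 : N * ((n : ℂ) - m) ^ 2 = 120 ^ 2 * 10 * (n * (n + 1)) := by
    field_simp at a5
    push_cast at a5
    linear_combination a5
  have b3 : N * ((n : ℂ) - m) ^ 2 = 120 ^ 2 * 6 * (n * (n - 1)) := by
    field_simp at a3
    push_cast at a3
    linear_combination (-1 : ℂ) * a3
  have hn4 : (n : ℂ) = -4 := by
    have : (n : ℂ) * (n + 4) = 0 := by linear_combination (b3 - b5) / 57600
    exact eq_neg_of_add_eq_zero_left ((mul_eq_zero.1 this).resolve_left d0)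
  rw [hn4] at b5
  have b6 : (Nat.card G : ℤ) * (-4 - m) ^ 2 = 1728000 := by
    have : (((Nat.card G : ℤ) * (-4 - m) ^ 2 : ℤ) : ℂ) = ((1728000 : ℤ) : ℂ) := by
      push_cast; linear_combination b5
    exact_mod_cast this
  obtain ⟨k, hk⟩ := H.seven
  rw [hk] at b6
  push_cast at b6
  have : (7 : ℤ) ∣ 1728000 := ⟨k * (-4 - m) ^ 2, by rw [← b6]; ring⟩
  omega

/-- Every element of order `5` centralised by an involution centralises an element of order `3`. -/
theorem Hyp.K_five [Finite G] (H : Hyp G) {y t s : G} (T : Tri 5 y t s) :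
    ∃ x ∈ K y, XP 3 x ∧ t * x * t⁻¹ = x⁻¹ ∧
      ∀ k ∈ K y, ∃ a ∈ zpowers y, ∃ b ∈ zpowers x, k = a * b := by
  refine (H.K_cases T).resolve_left fun h5 => ?_
  obtain ⟨φ, hφ⟩ := H.loc t T.ht
  have hx1 : φ (1, a5x) ≠ 1 := fun h => a5x_ne_one (congrArg Prod.snd (hφ.eq_one_iff.1 h))
  have hx3 : φ (1, a5x) ^ 3 = 1 := by
    rw [← map_pow, hφ.eq_one_iff]; exact Prod.ext rfl a5x_pow
  obtain ⟨s', T3⟩ := H.exists_tri (Or.inl rfl) hx1 hx3 T.ht (hφ.comm _)
  rcases H.K_cases T3 with h3 | ⟨z, hz, hZ, -, -⟩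
  · exact H.not_small T3 T h3 h5
  · have hxz : φ (1, a5x) ∈ K z := (H.mem_K T.hp hZ).2
      ⟨((H.mem_K T3.hp T3.xP).1 hz).1.symm, odd_orderOf_of_pow (by decide) hx3⟩
    obtain ⟨g, -, hg⟩ := H.exists_conj_K T.hp hZ T.xP
    have h1 := pow_eq_one_of_mem_zpowers T.xp (h5 _ (hg ▸ Cj.conj_mem_conj g hxz))
    rw [conj_pow] at h1
    have h2 : φ (1, a5x) ^ 5 = 1 := by
      by_contra h'
      exact conj_ne_one h' g h1
    exact hx1 (eq_one_of_pow_of_coprime hx3 h2 (by decide))

end CL.J1C
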