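import Cfsg.Agent.Base
import Cfsg.Agent.J1.Cert

/-!
# Consequences of the coset enumerations for `J₁`

* `h3_central`: in `⟨b, c, d | b², c², d², (bc)⁵, (cd)³, (bd)²⟩` the element `(bcd)⁵` is a central
  element of order dividing `2`;
* `l11_abc`, `l11_card`: the Coxeter group `a -3- b -5- c -3- d` with `(bcd)⁵ = 1` has order at most
  `660` and satisfies `(abc)⁵ = 1`;
* `Rel`, `Rel.card_le`: a presentation of `J₁`.
-/

namespace CL.J1C

open CL.CGT

variable {G : Type*} [Group G]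

/-- the columns given by a list of involutions. -/
def colOf (l : List G) (c : ℕ) : G := l.getD c 1

theorem colOf_iv {l : List G} (hl : ∀ x ∈ l, x * x = 1) {IV n : ℕ}
    (hiv : ∀ c < n, ivT IV n c = c) (c : ℕ) : colOf l (ivT IV n c) = (colOf l c)⁻¹ := by
  have h1 : ivT IV n c = c := by
    by_cases hc : c < n
    · exact hiv c hc
    · have : Nat.ble n c = true := by simpa using hc
      simp [ivT, this, cnd]
  rw [h1, eq_inv_iff_mul_eq_one]
  unfold colOf
  by_cases hc : c < l.length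
  · rw [List.getD_eq_getElem _ _ hc]; exact hl _ (List.getElem_mem hc)
  · rw [List.getD_eq_default _ _ (by omega), one_mul]

theorem eq_one_of_mem_gen_nil {γ : ℕ → G} {x : G} (h : x ∈ gen γ []) : x = 1 := by
  rw [gen_nil] at h; exact h

theorem gen_eq_closure {γ : ℕ → G} {gens : List (List ℕ)} {S : Set G}
    (h : ∀ x, x ∈ S ↔ ∃ w ∈ gens, wval γ w = x) : gen γ gens = Subgroup.closure S := by
  unfold gen
  congr 1
  ext x
  exact (h x).symm

theorem h3_central {b c d : G} (hb : b * b = 1) (hc : c * c = 1) (hd : d * d = 1)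
    (h1 : (b * c) ^ 5 = 1) (h2 : (c * d) ^ 3 = 1) (h3 : (b * d) ^ 2 = 1) :
    Commute ((b * c * d) ^ 5) b ∧ Commute ((b * c * d) ^ 5) c ∧ Commute ((b * c * d) ^ 5) d ∧
      (b * c * d) ^ 5 * (b * c * d) ^ 5 = 1 := by
  have hiv : ∀ k, colOf [b, c, d] (J1cH.iv0 k) = (colOf [b, c, d] k)⁻¹ :=
    colOf_iv (by simp [hb, hc, hd]) (by decide +kernel)
  have hr : ∀ r ∈ J1cH.base, wval (colOf [b, c, d]) r = 1 :=
    baseRels_of hiv (by simp [J1cH.prs, colOf, h1, h2, h3]) (by simp [J1cH.ex])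
  have key : ∀ l : List ℕ, (∀ k ∈ l, k < 3) → walk J1cH.T.ns l 0 = 0 →
      wval (colW (colOf [b, c, d]) J1cH.T.cw) l = 1 := fun l hl hw =>
    eq_one_of_mem_gen_nil ((J1cH.T.good hiv hr).wval_mem J1cH.T.ok J1cH.T.inv hl hw)
  have e0 : colW (colOf [b, c, d]) J1cH.T.cw 0 = b := by
    show wval _ [0] = b; simp [colOf]
  have e1 : colW (colOf [b, c, d]) J1cH.T.cw 1 = c := by
    show wval _ [1] = c; simp [colOf]
  have e2 : colW (colOf [b, c, d]) J1cH.T.cw 2 = d := by
    show wval _ [2] = d; simp [colOf]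
  have hz : wval (colW (colOf [b, c, d]) J1cH.T.cw) (pw [2, 1, 0] 5) = (b * c * d) ^ 5 := by
    rw [wval_pw]; simp [e0, e1, e2]
  have hzz : (b * c * d) ^ 5 * (b * c * d) ^ 5 = 1 := by
    have := key (appL (pw [2, 1, 0] 5) (pw [2, 1, 0] 5)) (by decide +kernel) (by decide +kernel)
    rwa [appL_eq, wval_append, hz] at this
  have hcomm : ∀ k < 3, colW (colOf [b, c, d]) J1cH.T.cw k * colW (colOf [b, c, d]) J1cH.T.cw k = 1 →
      walk J1cH.T.ns (pw (k :: pw [2, 1, 0] 5) 2) 0 = 0 →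
      Commute ((b * c * d) ^ 5) (colW (colOf [b, c, d]) J1cH.T.cw k) := by
    intro k hk hkk hw
    have := key _ (by
      intro j hj
      interval_cases k <;> revert j <;> decide +kernel) hw
    rw [wval_pw, wval_cons, hz] at this
    set z := (b * c * d) ^ 5
    set x := colW (colOf [b, c, d]) J1cH.T.cw k
    show z * x = x * z
    calc z * x = z * x * ((x * x) * (z * z)) := by rw [hkk, hzz]; group
      _ = (z * x) * x * (x * z) * z := by group
      _ = z * (x * x) * (x * z) * z := by group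
      _ = z * x * z * z := by rw [hkk]; group
      _ = (z * x) ^ 2 * (x * z) := by
        rw [show (z * x) ^ 2 * (x * z) = z * x * z * (x * x) * z by rw [pow_two]; group, hkk]; group
      _ = x * z := by rw [this, one_mul]
  refine ⟨?_, ?_, ?_, hzz⟩
  · have := hcomm 0 (by norm_num) (by rw [e0, hb]) (by decide +kernel); rwa [e0] at this
  · have := hcomm 1 (by norm_num) (by rw [e1, hc]) (by decide +kernel); rwa [e1] at this
  · have := hcomm 2 (by norm_num) (by rw [e2, hd]) (by decide +kernel); rwa [e2] at this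

/-- the relations of the presentation of `L₂(11)`. -/
structure RelL (a b c d : G) : Prop where
  ha : a * a = 1
  hb : b * b = 1
  hc : c * c = 1
  hd : d * d = 1
  ab : (a * b) ^ 3 = 1
  bc : (b * c) ^ 5 = 1
  cd : (c * d) ^ 3 = 1
  ac : (a * c) ^ 2 = 1
  ad : (a * d) ^ 2 = 1
  bd : (b * d) ^ 2 = 1
  bcd : (b * c * d) ^ 5 = 1

theorem RelL.hiv {a b c d : G} (h : RelL a b c d) :
    ∀ k, colOf [a, b, c, d] (J1cL.iv0 k) = (colOf [a, b, c, d] k)⁻¹ :=
  colOf_iv (by simp [h.ha, h.hb, h.hc, h.hd]) (by decide +kernel)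

theorem RelL.hr {a b c d : G} (h : RelL a b c d) : ∀ r ∈ J1cL.base, wval (colOf [a, b, c, d]) r = 1 :=
  baseRels_of h.hiv (by simp [J1cL.prs, colOf, h.ab, h.bc, h.cd, h.ac, h.ad, h.bd])
    (by simp [J1cL.ex, WE.eval, colOf, h.bcd])

theorem RelL.abc {a b c d : G} (h : RelL a b c d) : (a * b * c) ^ 5 = 1 := by
  have e0 : colW (colOf [a, b, c, d]) J1cL.T.cw 0 = a := by
    show wval _ [0] = a; simp [colOf]
  have e1 : colW (colOf [a, b, c, d]) J1cL.T.cw 1 = b := by
    show wval _ [1] = b; simp [colOf]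
  have e2 : colW (colOf [a, b, c, d]) J1cL.T.cw 2 = c := by
    show wval _ [2] = c; simp [colOf]
  have := eq_one_of_mem_gen_nil (((J1cL.T.good h.hiv h.hr).wval_mem J1cL.T.ok J1cL.T.inv
    (l := pw [2, 1, 0] 5) (by decide +kernel) (by decide +kernel)))
  rw [wval_pw] at this
  simpa [e0, e1, e2] using this

theorem RelL.card_le {a b c d : G} (h : RelL a b c d) :
    Finite (Subgroup.closure ({a, b, c, d} : Set G)) ∧
      Nat.card (Subgroup.closure ({a, b, c, d} : Set G)) ≤ 660 := by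
  have h1 := card_le_step (J1cL.T.relIndex_le h.hiv h.hr) le_rfl card_gen_nil
  have h2 : gen (colOf [a, b, c, d]) J1cL.T.gens = Subgroup.closure ({a, b, c, d} : Set G) :=
    gen_eq_closure fun x => by simp [J1cL.T.gens, colOf, eq_comm]
  rw [h2] at h1
  exact ⟨h1.1, h1.2.trans (by norm_num)⟩

/-- the relations of the presentation of `J₁`. -/
structure Rel (a b c d e : G) : Prop extends RelL a b c d where
  he : e * e = 1
  de : (d * e) ^ 5 = 1
  ae : (a * e) ^ 2 = 1
  be : (b * e) ^ 2 = 1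
  ce : (c * e) ^ 2 = 1
  cde : a * (c * d * e) ^ 5 = 1

theorem Rel.card_le {a b c d e : G} (h : Rel a b c d e) :
    Finite (Subgroup.closure ({a, b, c, d, e} : Set G)) ∧
      Nat.card (Subgroup.closure ({a, b, c, d, e} : Set G)) ≤ 175560 := by
  have hiv : ∀ k, colOf [a, b, c, d, e] (J1cJ.iv0 k) = (colOf [a, b, c, d, e] k)⁻¹ :=
    colOf_iv (by simp [h.ha, h.hb, h.hc, h.hd, h.he]) (by decide +kernel)
  have hr : ∀ r ∈ J1cJ.base, wval (colOf [a, b, c, d, e]) r = 1 :=
    baseRels_of hiv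
      (by simp [J1cJ.prs, colOf, h.ab, h.bc, h.cd, h.ac, h.ad, h.bd, h.de, h.ae, h.be, h.ce])
      (by simp [J1cJ.ex, WE.eval, colOf, h.bcd, h.cde, h.toRelL.abc])
  have h2 : gen (colOf [a, b, c, d, e]) J1cJ.T.gens = Subgroup.closure ({a, b, c, d, e} : Set G) :=
    gen_eq_closure fun x => by simp [J1cJ.T.gens, colOf, eq_comm]
  have h3 : gen (colOf [a, b, c, d, e]) J1cJ.T.subs = Subgroup.closure ({a, b, c, d} : Set G) :=
    gen_eq_closure fun x => by simp [J1cJ.T.subs, colOf, eq_comm]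
  have h1 := card_le_step (J1cJ.T.relIndex_le hiv hr) h3.le h.toRelL.card_le
  rw [h2] at h1
  exact ⟨h1.1, h1.2.trans (by norm_num)⟩

end CL.J1C
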