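import Cfsg.Agent.Base
import Cfsg.Agent.J1.CharStep
import Cfsg.Agent.J1.Pres

/-!
# Generators satisfying the presentation of `J₁`

In a finite group satisfying `Hyp` we construct involutions `a, b, c, d, e` which satisfy the
relations `Rel` such that the subgroup generated by them contains the centraliser of `a`.
-/

open Subgroup

namespace CL.J1C

variable {G : Type*} [Group G]

/-- `d` centralises all the involutions which centralise `y`. -/
def Cen (y d : G) : Prop := ∀ b : G, Inv b → Commute b y → Commute d b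

theorem Cen.conj {y d : G} (h : Cen y d) (g : G) : Cen (g * y * g⁻¹) (g * d * g⁻¹) := by
  intro b hb hby
  have h1 : Commute (g⁻¹ * b * g⁻¹⁻¹) y := by
    have := commute_conj hby g⁻¹
    rwa [show g⁻¹ * (g * y * g⁻¹) * g⁻¹⁻¹ = y by group] at this
  have := commute_conj (h _ (hb.conj g⁻¹) h1) g
  rwa [show g * (g⁻¹ * b * g⁻¹⁻¹) * g⁻¹ = b by group] at this

theorem cen_conj_iff {y d : G} (g : G) : Cen (g * y * g⁻¹) (g * d * g⁻¹) ↔ Cen y d := by
  refine ⟨fun h => ?_, fun h => h.conj g⟩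
  have := h.conj g⁻¹
  simpa [mul_assoc] using this

theorem cen_of_mem_zpowers {y y' d : G} (h : y ∈ zpowers y') (hc : Cen y d) : Cen y' d :=
  fun b hb hby => hc b hb (commute_of_mem_zpowers hby h)

/-- a triple: an involution `a`, an element `y` of order `5` centralised by `a`, and `d`
centralising `a` and inverting `y`. -/
structure Tr5 (a y d : G) : Prop where
  ha : Inv a
  y1 : y ≠ 1
  y5 : y ^ 5 = 1
  ya : Commute y a
  dd : d * d = 1
  da : Commute d a
  inv : d * y * d⁻¹ = y⁻¹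

namespace Hyp

variable [Finite G] (H : Hyp G)
include H

/-- the structure of the centraliser of an element of order `5`. -/
theorem exists_three {a y : G} (ha : Inv a) (hy1 : y ≠ 1) (hy5 : y ^ 5 = 1) (hya : Commute y a) :
    ∃ x : G, x ≠ 1 ∧ x ^ 3 = 1 ∧ Commute x y ∧ a * x * a⁻¹ = x⁻¹ ∧
      (∀ b : G, Inv b → Commute b y → ∃ k ∈ zpowers x, b = a * k) ∧
      ∀ d : G, d * y * d⁻¹ = y⁻¹ → d * x * d⁻¹ = x ∨ d * x * d⁻¹ = x⁻¹ := by
  obtain ⟨s, T⟩ := H.exists_tri (Or.inr rfl) hy1 hy5 ha hya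
  obtain ⟨x, hxK, hx, hax, hK⟩ := H.K_five T
  have hp : (5 : ℕ) = 3 ∨ (5 : ℕ) = 5 := Or.inr rfl
  have hxy : Commute x y := ((H.mem_K hp T.xP).1 hxK).1
  refine ⟨x, hx.1, hx.2.1, hxy, hax, fun b hb hby => ?_, fun d hd => ?_⟩
  · have h1 : a * b ∈ K y := H.mul_mem_K hp T.xP hya.symm hby (H.not_mem_K hp T.xP ha)
      (H.not_mem_K hp T.xP hb)
    obtain ⟨u, hu, k, hk, huk⟩ := hK _ h1
    have hak : a * k * a⁻¹ = k⁻¹ := inverts_of_mem_zpowers hax hk
    have hau : Commute a u := commute_of_mem_zpowers hya.symm hu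
    have huk' : Commute u k :=
      commute_of_mem_zpowers (commute_of_mem_zpowers hxy hu).symm hk
    have h2 : a * (a * b) * a⁻¹ = (a * b)⁻¹ := by
      rw [mul_inv_rev, ha.inv_eq, hb.inv_eq, ← mul_assoc, ha.1, one_mul]
    have h3 : u⁻¹ = u := by
      rw [huk] at h2
      have h4 : a * (u * k) * a⁻¹ = u * k⁻¹ := by
        rw [← hak, ← mul_assoc, hau.eq]; group
      rw [h4, mul_inv_rev, huk'.inv_right.eq] at h2
      exact (mul_left_cancel h2).symm
    have h5 : u = 1 := eq_one_of_odd (n := 5) (by decide) (pow_eq_one_of_mem_zpowers hy5 hu) h3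
    refine ⟨k, hk, ?_⟩
    rw [h5, one_mul] at huk
    rw [← huk, ← mul_assoc, ha.1, one_mul]
  · have h1 := H.conj_mem_K_of_inverts hp T.xP hxK hd
    obtain ⟨u, hu, k, hk, huk⟩ := hK _ h1
    have huk' : Commute u k :=
      commute_of_mem_zpowers (commute_of_mem_zpowers hxy hu).symm hk
    have h2 : u ^ 3 = 1 := by
      have h3 : (d * x * d⁻¹) ^ 3 = 1 := by rw [conj_pow, hx.2.1]; group
      rw [huk, huk'.mul_pow, pow_eq_one_of_mem_zpowers hx.2.1 hk, mul_one] at h3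
      exact h3
    have h5 : u = 1 :=
      eq_one_of_pow_of_coprime h2 (pow_eq_one_of_mem_zpowers hy5 hu) (by decide)
    rw [h5, one_mul] at huk
    exact eq_or_eq_inv_of_three hx.2.1 (huk ▸ hk) (conj_ne_one hx.1 d)

theorem cen_iff_not {a y d : G} (T : Tr5 a y d) : Cen y d ↔ ¬ Cen y (a * d) := by
  obtain ⟨x, hx1, hx3, hxy, hax, hinv, hd⟩ := H.exists_three T.ha T.y1 T.y5 T.ya
  have hax' : Inv (a * x) := by
    refine ⟨?_, fun h => hx1 ?_⟩
    · calc a * x * (a * x) = a * x * a⁻¹ * x := by rw [T.ha.inv_eq]; group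
        _ = 1 := by rw [hax, inv_mul_cancel]
    · have h1 : x = a := by rw [← T.ha.inv_eq]; exact (eq_inv_of_mul_eq_one_right h)
      exact eq_one_of_pow_of_coprime hx3 (m := 3) (n := 2) (by rw [h1, pow_two, T.ha.1])
        (by decide)
  have hcen : ∀ f : G, Commute f a → Commute f x → Cen y f := by
    intro f hfa hfx b hb hby
    obtain ⟨k, hk, rfl⟩ := hinv b hb hby
    exact hfa.mul_right (commute_of_mem_zpowers hfx hk)
  have hcen' : ∀ f : G, Commute f a → Cen y f → Commute f x := by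
    intro f hfa hf
    have h1 := hf _ hax' (T.ya.symm.mul_left hxy)
    have h2 := hfa.inv_right.mul_right h1
    rwa [inv_mul_cancel_left] at h2
  have hada : Commute (a * d) a := (Commute.refl a).mul_left T.da
  constructor
  · intro h1 h2
    have h3 := (hcen' _ hada h2).mul_left (hcen' _ T.da h1).inv_left
    rw [mul_inv_cancel_right] at h3
    exact hx1 (eq_one_of_odd (n := 3) (by decide) hx3 (hax.symm.trans (conj_eq_of_commute h3)))
  · intro h
    rcases hd d T.inv with h1 | h1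
    · exact hcen d T.da (commute_of_conj_eq h1)
    · refine absurd (hcen _ hada (commute_of_conj_eq ?_)) h
      calc a * d * x * (a * d)⁻¹ = a * (d * x * d⁻¹) * a⁻¹ := by group
        _ = x := by rw [h1, conj_inv_of_inverts hax]

theorem cen_of_two {a y z d : G} (ha : Inv a) (hy1 : y ≠ 1) (hy5 : y ^ 5 = 1) (hya : Commute y a)
    (hz : Inv z) (hzy : Commute z y) (hne : z ≠ a) (hda : Commute d a) (hdz : Commute d z) :
    Cen y d := by
  obtain ⟨x, hx1, hx3, hxy, hax, hinv, -⟩ := H.exists_three ha hy1 hy5 hya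
  obtain ⟨k, hk, rfl⟩ := hinv z hz hzy
  have hk1 : k ≠ 1 := fun h => hne (by rw [h, mul_one])
  have h1 : Commute d k := by
    have := hda.inv_right.mul_right hdz
    rwa [inv_mul_cancel_left] at this
  have h2 : Commute d x := commute_of_mem_zpowers h1 (mem_zpowers_symm Nat.prime_three hx3 hk hk1)
  intro b hb hby
  obtain ⟨l, hl, rfl⟩ := hinv b hb hby
  exact hda.mul_right (commute_of_mem_zpowers h2 hl)

theorem cen_uniform {a y d a' y' d' : G} (T : Tr5 a y d) (T' : Tr5 a' y' d')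
    (h : Cen y d ↔ InF a d) : Cen y' d' ↔ InF a' d' := by
  have hp : (5 : ℕ) = 3 ∨ (5 : ℕ) = 5 := Or.inr rfl
  obtain ⟨g, hga, hgy⟩ := H.pair_conj hp T.y1 T.y5 T.ha T.ya T'.y1 T'.y5 T'.ha T'.ya
  have hgy' : y' ∈ zpowers (g * y * g⁻¹) :=
    mem_zpowers_symm (by norm_num) T'.y5 hgy (conj_ne_one T.y1 g)
  have h1 : Cen y' (g * d * g⁻¹) ↔ InF a' (g * d * g⁻¹) := by
    rw [← hga, inF_conj_iff, ← h, ← cen_conj_iff (y := y) (d := d) g]
    exact ⟨cen_of_mem_zpowers hgy', cen_of_mem_zpowers hgy⟩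
  have hd1 : g * d * g⁻¹ * (g * d * g⁻¹) = 1 := by
    calc g * d * g⁻¹ * (g * d * g⁻¹) = g * (d * d) * g⁻¹ := by group
      _ = 1 := by rw [T.dd]; group
  have hd2 : Commute (g * d * g⁻¹) a' := hga ▸ commute_conj T.da g
  have hd3 : g * d * g⁻¹ * y' * (g * d * g⁻¹)⁻¹ = y'⁻¹ := by
    refine inverts_of_mem_zpowers ?_ hgy'
    calc g * d * g⁻¹ * (g * y * g⁻¹) * (g * d * g⁻¹)⁻¹ = g * (d * y * d⁻¹) * g⁻¹ := by group
      _ = _ := by rw [T.inv]; group
  obtain ⟨k, hk, hkd⟩ := H.conj_inverting hp T'.ha T'.y1 T'.y5 T'.ya hd1 T'.dd hd2 T'.da hd3 T'.inv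
  have hky : Commute k y' := (commute_of_mem_zpowers (Commute.refl y') hk).symm
  have hka : Commute k a' := (commute_of_mem_zpowers T'.ya.symm hk).symm
  have h2 : Cen y' (k * (g * d * g⁻¹) * k⁻¹) ↔ InF a' (k * (g * d * g⁻¹) * k⁻¹) := by
    rw [inF_conj_iff_of_commute hka, ← h1, ← cen_conj_iff (y := y') (d := g * d * g⁻¹) k,
      conj_eq_of_commute hky]
  rcases hkd with hkd | hkd
  · rwa [hkd] at h2
  · rw [hkd] at h2
    obtain ⟨φ, hφ⟩ := H.loc a' T'.ha
    rw [hφ.inF_mul (Commute.refl a') T'.da] at h2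
    have h3 := hφ.not_inF_self
    rw [H.cen_iff_not T', h2]
    tauto

theorem exists_sigma : ∃ σ : Prop, ∀ a y d : G, Tr5 a y d → (Cen y d ↔ (InF a d ↔ σ)) := by
  refine ⟨∃ a y d : G, Tr5 a y d ∧ (Cen y d ↔ InF a d), fun a y d T => ?_⟩
  by_cases hσ : ∃ a y d : G, Tr5 a y d ∧ (Cen y d ↔ InF a d)
  · obtain ⟨a', y', d', T', h⟩ := id hσ
    rw [H.cen_uniform T' T h]
    simp only [hσ, iff_true]
  · have h : ¬ (Cen y d ↔ InF a d) := fun h => hσ ⟨a, y, d, T, h⟩
    simp only [hσ, iff_false]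
    tauto

theorem exists_pair (σ : Prop) {a : G} (ha : Inv a) :
    ∃ c e : G, Inv c ∧ Inv e ∧ Commute c a ∧ Commute e a ∧ c ≠ a ∧ e ≠ a ∧ Commute c e ∧ c ≠ e ∧
      (InF a c ↔ σ) ∧ (InF a e ↔ σ) ∧ (InF e c ↔ ¬ σ) := by
  obtain ⟨φ, hφ⟩ := H.loc a ha
  have h0 : ∃ e : G, Inv e ∧ Commute e a ∧ e ≠ a ∧ (InF a e ↔ σ) := by
    by_cases hσ : σ
    · refine ⟨φ (1, a5s), hφ.inv_iff.2 (by decide), hφ.comm _, ?_, ?_⟩
      · rw [Ne, hφ.eq_u_iff]; decide
      · rw [hφ.inF_iff]; simp [hσ]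
    · refine ⟨φ (Multiplicative.ofAdd 1, a5s), hφ.inv_iff.2 (by decide), hφ.comm _, ?_, ?_⟩
      · rw [Ne, hφ.eq_u_iff]; decide
      · rw [hφ.inF_iff]; simp only [hσ, iff_false]; exact z2_ne
  obtain ⟨e, he, hea, hne, hF⟩ := h0
  obtain ⟨w, hwa, h1, h2, h3, h4, h5⟩ := hφ.cyc he hea hne
  have hconj : ∀ v : G, Commute v a → v ≠ a → Commute (w * v * w⁻¹) a ∧ w * v * w⁻¹ ≠ a := by
    intro v hv hv'
    refine ⟨?_, fun h => hv' ?_⟩
    · have := commute_conj hv w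
      rwa [conj_eq_of_commute hwa] at this
    · rw [← conj_eq_of_commute hwa] at h
      exact mul_left_cancel (mul_right_cancel h)
  obtain ⟨c1, c2⟩ := hconj e hea hne
  obtain ⟨c3, c4⟩ := hconj _ c1 c2
  by_cases hτ : InF e (w * e * w⁻¹) ↔ ¬ σ
  · exact ⟨w * e * w⁻¹, e, he.conj w, he, c1, hea, c2, hne, h2, h1,
      by rw [inF_conj_iff_of_commute hwa, hF], hF, hτ⟩
  · refine ⟨w * (w * e * w⁻¹) * w⁻¹, e, (he.conj w).conj w, he, c3, hea, c4, hne, h4, h3,
      by rw [inF_conj_iff_of_commute hwa, inF_conj_iff_of_commute hwa, hF], hF, ?_⟩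
    rw [H.inF_antisymm he ((he.conj w).conj w) h4.symm h3.symm, ← inF_conj_iff w, h5]
    tauto

theorem exists_gens : ∃ a b c d e : G, Rel a b c d e ∧ a ≠ 1 ∧
    ∀ g : G, Commute g a → g ∈ closure ({a, b, c, d, e} : Set G) := by
  obtain ⟨σ, hσ⟩ := H.exists_sigma
  obtain ⟨a, ha⟩ := H.ex
  obtain ⟨c, e, hc, he, hca, hea, hca', hea', hce, hne, Fc, Fe, Fec⟩ := H.exists_pair σ ha
  obtain ⟨φ, hφ⟩ := H.loc a ha
  obtain ⟨ψ, hψ⟩ := H.loc e he
  obtain ⟨d, hd, hda, hda', Fd, hdc, hde, hcd3, hde5, hcde1, hcde2⟩ :=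
    hφ.exists_d hc he hca hea hca' hea' hce hne (Fc.trans Fe.symm)
  have hsq : ∀ u v : G, Inv u → Inv v → Commute u v → (u * v) ^ 2 = 1 := fun u v hu hv h => by
    rw [h.mul_pow, pow_two, pow_two, hu.1, hv.1, one_mul]
  have hne1 : ∀ u v : G, Inv v → u ≠ v → u * v ≠ 1 := fun u v hv h h' =>
    h (by rw [← hv.inv_eq]; exact eq_inv_of_mul_eq_one_left h')
  have hinv1 : ∀ u v : G, Inv u → Inv v → u * (u * v) * u⁻¹ = (u * v)⁻¹ := fun u v hu hv => by
    rw [mul_inv_rev, hu.inv_eq, hv.inv_eq, ← mul_assoc, hu.1, one_mul]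
  have hinv2 : ∀ u v : G, Inv u → Inv v → v * (u * v) * v⁻¹ = (u * v)⁻¹ := fun u v hu hv => by
    rw [mul_inv_rev, hu.inv_eq, mul_assoc, mul_inv_cancel_right, hv.inv_eq]
  have hy1 : d * e ≠ 1 := hne1 d e he hde
  have hya : Commute (d * e) a := hda.mul_left hea
  have Td : Tr5 a (d * e) d := ⟨ha, hy1, hde5, hya, hd.1, hda, hinv1 d e hd he⟩
  have Te : Tr5 a (d * e) e := ⟨ha, hy1, hde5, hya, he.1, hea, hinv2 d e hd he⟩
  have Cd : Cen (d * e) d := (hσ _ _ _ Td).2 (Fd.trans Fe)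
  have Ce : Cen (d * e) e := (hσ _ _ _ Te).2 Fe
  obtain ⟨x, hx1, hx3, hxy, hax, -, -⟩ := H.exists_three ha hy1 hde5 hya
  have hb : Inv (a * x) := by
    refine ⟨?_, fun h => hx1 ?_⟩
    · calc a * x * (a * x) = a * x * a⁻¹ * x := by rw [ha.inv_eq]; group
        _ = 1 := by rw [hax, inv_mul_cancel]
    · have h1 : x = a := by rw [← ha.inv_eq]; exact (eq_inv_of_mul_eq_one_right h)
      exact eq_one_of_pow_of_coprime hx3 (m := 3) (n := 2) (by rw [h1, pow_two, ha.1])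
        (by decide)
  have hby : Commute (a * x) (d * e) := hya.symm.mul_left hxy
  have hab : (a * (a * x)) ^ 3 = 1 := by rw [← mul_assoc, ha.1, one_mul, hx3]
  have hba : a * x ≠ a := fun h => hx1 (mul_left_cancel (h.trans (mul_one a).symm))
  generalize a * x = b at hb hby hab hba
  have hdb : Commute d b := Cd b hb hby
  have heb : Commute e b := Ce b hb hby
  have Fea : InF e a ↔ ¬ σ := by
    rw [H.inF_antisymm he ha hea hea', Fe]
  obtain ⟨hbc5, hbc, Feb, habc1, habc2⟩ := hψ.abc ha hb hc hea.symm heb.symm hce hea'.symm hne hca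
    hca' (Fec.trans Fea.symm) hba hab
  obtain ⟨z1, z2, z3, z4⟩ := h3_central hb.1 hc.1 hd.1 hbc5 hcd3 (hsq b d hb hd hdb.symm)
  have hz : (b * c * d) ^ 5 = 1 := by
    by_contra hz
    have hy1' : b * c ≠ 1 := hne1 b c hc hbc
    have hye : Commute (b * c) e := heb.symm.mul_left hce
    have hze : (b * c * d) ^ 5 ≠ e := fun h => by
      rw [h] at z3
      exact hy1 (eq_one_of_pow_of_coprime (hsq d e hd he z3.symm) hde5 (by decide))
    have h1 : Cen (b * c) b :=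
      H.cen_of_two he hy1' hbc5 hye ⟨z4, hz⟩ (z1.mul_right z2) hze heb.symm z1.symm
    have h2 := (hσ _ _ _ ⟨he, hy1', hbc5, hye, hb.1, heb.symm, hinv1 b c hb hc⟩).1 h1
    exact iff_not_self (h2.symm.trans (Feb.trans Fea))
  have RL : RelL a b c d := ⟨ha.1, hb.1, hc.1, hd.1, hab, hbc5, hcd3, hsq a c ha hc hca.symm,
    hsq a d ha hd hda.symm, hsq b d hb hd hdb.symm, hz⟩
  have hnσ : ¬ σ := fun h =>
    he.2 ((habc2 (fun h' => Fea.1 h' h)).symm.trans RL.abc)
  refine ⟨a, b, c, d, e, ⟨RL, he.1, hde5, hsq a e ha he hea.symm, hsq b e hb he heb.symm,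
    hsq c e hc he hce, ?_⟩, ha.2, fun g hg => ?_⟩
  · rw [hcde2 fun h => hnσ (Fe.1 h), ha.1]
  · have m : ∀ u ∈ ({a, b, c, d, e} : Set G), u ∈ closure ({a, b, c, d, e} : Set G) :=
      fun u hu => subset_closure hu
    have ma := m a (by simp)
    have mc := m c (by simp)
    have md := m d (by simp)
    have me := m e (by simp)
    exact hφ.mem_of_commute _ ma mc (mul_mem mc md) (mul_mem md me) hca (hca.mul_left hda) hya hc
      hca' hcd3 (hne1 c d hd hdc.symm) hde5 hy1 hg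

end Hyp

end CL.J1C
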